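import Mathlib.RingTheory.PowerSeries.Basic
import Mathlib.RingTheory.PowerSeries.Inverse
import Mathlib.Algebra.Polynomial.Monic
import Mathlib.Algebra.Polynomial.Eval.Degree
import Mathlib.Tactic.Ring
import Mathlib.Tactic.LinearCombination

/-!
# Numerical induction: Euler characteristics of hypersurface sections

`Sys Ob F` is an abstract system of objects (think: closed subschemes of projective space) with
sections by forms (`F a` = forms of degree `a`), an integer invariant `e` and a notion of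
dimension: `D (m + 1) Z` = "smooth of pure dimension `m`", `D 0 Z` = "empty".  A form `H` is
transversal to `Z` with `D m Z` when `D (m - 1) (sec Z H)`.

Main result `Sys.e_sec_eq`: from Bertini, the constancy of `e (sec Z H)` and the double point
recursion
`e(Z.G) = e(Z.A) + e(Z.L) - 2 e(Z.A.L) + e(Z.A.L.G)` (degrees `a + 1, a, 1`), the closed formula
`e(Z.A) = ∑_{1 ≤ j < m} (-1)^(j-1) a (a-1)^(j-1) c_j(Z)`, `c_j(Z) = e(Z.L_1. ... .L_j)`.
`exists_polynomial`: the resulting integral polynomial.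
-/

set_option autoImplicit false

universe u v

namespace Groth.Agent.Lefpen.H590.Num

/-- An abstract system of objects with sections by forms. -/
structure Sys (Ob : Type u) (F : ℕ → Type v) where
  /-- `D (m + 1) Z`: smooth of pure dimension `m`; `D 0 Z`: empty -/
  D : ℕ → Ob → Prop
  /-- the section by a form -/
  sec : ∀ {a : ℕ}, Ob → F a → Ob
  /-- the invariant -/
  e : Ob → ℤ
  /-- the relation "isomorphic over projective space" -/
  R : Ob → Ob → Prop
  R_refl : ∀ Z, R Z Z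
  R_trans : ∀ {Z Z' Z''}, R Z Z' → R Z' Z'' → R Z Z''
  R_D : ∀ {Z Z' : Ob} {m : ℕ}, R Z Z' → D m Z → D m Z'
  R_e : ∀ {Z Z' : Ob}, R Z Z' → e Z = e Z'
  R_sec : ∀ {Z Z' : Ob} {a : ℕ} (H : F a), R Z Z' → R (sec Z H) (sec Z' H)
  R_comm : ∀ (Z : Ob) {a b : ℕ} (H : F a) (H' : F b), R (sec (sec Z H) H') (sec (sec Z H') H)
  e_zero : ∀ {Z : Ob}, D 0 Z → e Z = 0
  D_zero : ∀ {Z : Ob} {a : ℕ} (H : F a), D 0 Z → D 0 (sec Z H)
  bertini : ∀ (a : ℕ), 1 ≤ a → ∀ l : List (ℕ × Ob), (∀ p ∈ l, D p.1 p.2) →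
    ∃ H : F a, ∀ p ∈ l, D (p.1 - 1) (sec p.2 H)
  const : ∀ {m a : ℕ} {Z : Ob} (H H' : F a), D m Z → D (m - 1) (sec Z H) → D (m - 1) (sec Z H') →
    e (sec Z H) = e (sec Z H')
  recur : ∀ {m a : ℕ} {Z : Ob} (A : F a) (L : F 1) (G : F (a + 1)), 1 ≤ a → D m Z →
    D (m - 1) (sec Z A) → D (m - 1) (sec Z L) → D (m - 1) (sec Z G) →
    D (m - 1 - 1) (sec (sec Z A) L) → D (m - 1 - 1) (sec (sec Z A) G) →
    D (m - 1 - 1) (sec (sec Z L) G) → D (m - 1 - 1 - 1) (sec (sec (sec Z A) L) G) →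
    e (sec Z G) = e (sec Z A) + e (sec Z L) - 2 * e (sec (sec Z A) L) +
      e (sec (sec (sec Z A) L) G)

namespace Sys

variable {Ob : Type u} {F : ℕ → Type v} (S : Sys Ob F)

/-- Iterated sections by linear forms. -/
def secs (Z : Ob) : List (F 1) → Ob
  | [] => Z
  | L :: Ls => secs (S.sec Z L) Ls

@[simp] lemma secs_nil (Z : Ob) : S.secs Z [] = Z := rfl

@[simp] lemma secs_cons (Z : Ob) (L : F 1) (Ls : List (F 1)) :
    S.secs Z (L :: Ls) = S.secs (S.sec Z L) Ls := rfl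

/-- A chain of linear forms transversal at every stage. -/
def TC (m : ℕ) (Z : Ob) : List (F 1) → Prop
  | [] => True
  | L :: Ls => S.D (m - 1) (S.sec Z L) ∧ TC (m - 1) (S.sec Z L) Ls

@[simp] lemma TC_nil (m : ℕ) (Z : Ob) : S.TC m Z [] := trivial

@[simp] lemma TC_cons (m : ℕ) (Z : Ob) (L : F 1) (Ls : List (F 1)) :
    S.TC m Z (L :: Ls) ↔ S.D (m - 1) (S.sec Z L) ∧ S.TC (m - 1) (S.sec Z L) Ls := Iff.rfl

lemma D_secs {m : ℕ} {Z : Ob} (hZ : S.D m Z) (Ls : List (F 1)) (h : S.TC m Z Ls) :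
    S.D (m - Ls.length) (S.secs Z Ls) := by
  induction Ls generalizing m Z with
  | nil => simpa using hZ
  | cons L Ls ih =>
    have h1 := ih h.1 h.2
    rw [secs_cons, List.length_cons]
    have h2 : m - (Ls.length + 1) = m - 1 - Ls.length := by omega
    rw [h2]
    exact h1

lemma R_secs {Z Z' : Ob} (h : S.R Z Z') (Ls : List (F 1)) : S.R (S.secs Z Ls) (S.secs Z' Ls) := by
  induction Ls generalizing Z Z' with
  | nil => exact h
  | cons L Ls ih => exact ih (S.R_sec L h)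

/-- Moving a form through a chain of linear forms. -/
lemma R_secs_comm {a : ℕ} (Z : Ob) (H : F a) (Ls : List (F 1)) :
    S.R (S.secs (S.sec Z H) Ls) (S.sec (S.secs Z Ls) H) := by
  induction Ls generalizing Z with
  | nil => exact S.R_refl _
  | cons L Ls ih =>
    exact S.R_trans (S.R_secs (S.R_comm Z H L) Ls) (ih (S.sec Z L))

/-- Bertini for chains of linear forms, for finitely many objects. -/
lemma exists_chain (j : ℕ) (l : List (ℕ × Ob)) (hl : ∀ p ∈ l, S.D p.1 p.2) :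
    ∃ Ls : List (F 1), Ls.length = j ∧ ∀ p ∈ l, S.TC p.1 p.2 Ls := by
  induction j generalizing l with
  | zero => exact ⟨[], rfl, fun _ _ => trivial⟩
  | succ j ih =>
    obtain ⟨L, hL⟩ := S.bertini 1 le_rfl l hl
    obtain ⟨Ls, h1, h2⟩ := ih (l.map fun p => (p.1 - 1, S.sec p.2 L)) (by
      intro q hq
      obtain ⟨p, hp, rfl⟩ := List.mem_map.1 hq
      exact hL p hp)
    refine ⟨L :: Ls, by simp [h1], fun p hp => ⟨hL p hp, ?_⟩⟩
    exact h2 (p.1 - 1, S.sec p.2 L) (List.mem_map.2 ⟨p, hp, rfl⟩)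

/-- The invariant of an iterated linear section does not depend on the linear forms. -/
lemma e_secs_eq (j : ℕ) {m : ℕ} {Z : Ob} (hZ : S.D m Z) (Ls Ls' : List (F 1)) (hl : Ls.length = j)
    (hl' : Ls'.length = j) (h : S.TC m Z Ls) (h' : S.TC m Z Ls') :
    S.e (S.secs Z Ls) = S.e (S.secs Z Ls') := by
  induction j generalizing m Z Ls Ls' with
  | zero =>
    rw [List.length_eq_zero_iff] at hl hl'
    rw [hl, hl']
  | succ j ih =>
    match Ls, Ls', hl, hl', h, h' with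
    | L :: Ls, L' :: Ls', hl, hl', h, h' =>
      have hl1 : Ls.length = j := by simpa using hl
      have hl1' : Ls'.length = j := by simpa using hl'
      obtain ⟨K, hK, hKt⟩ := S.exists_chain j
        [(m, Z), (m - 1, S.sec Z L), (m - 1, S.sec Z L')] (by
          intro p hp
          simp only [List.mem_cons, List.not_mem_nil, or_false] at hp
          rcases hp with rfl | rfl | rfl
          · exact hZ
          · exact h.1
          · exact h'.1)
      have k0 : S.TC m Z K := hKt (m, Z) (by simp)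
      have k1 : S.TC (m - 1) (S.sec Z L) K := hKt (m - 1, S.sec Z L) (by simp)
      have k2 : S.TC (m - 1) (S.sec Z L') K := hKt (m - 1, S.sec Z L') (by simp)
      rw [secs_cons, secs_cons, ih h.1 Ls K hl1 hK h.2 k1, ih h'.1 Ls' K hl1' hK h'.2 k2,
        S.R_e (S.R_secs_comm Z L K), S.R_e (S.R_secs_comm Z L' K)]
      have e1 : m - 1 - K.length = m - K.length - 1 := by omega
      refine S.const L L' (S.D_secs hZ K k0) ?_ ?_
      · rw [← e1]
        exact S.R_D (S.R_secs_comm Z L K) (S.D_secs h.1 K k1)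
      · rw [← e1]
        exact S.R_D (S.R_secs_comm Z L' K) (S.D_secs h'.1 K k2)

/-- `c_j(Z)`: the invariant of a generic linear section of codimension `j`. -/
noncomputable def c (j : ℕ) {m : ℕ} {Z : Ob} (hZ : S.D m Z) : ℤ :=
  S.e (S.secs Z (S.exists_chain j [(m, Z)] (by simpa using hZ)).choose)

lemma c_eq (j : ℕ) {m : ℕ} {Z : Ob} (hZ : S.D m Z) (Ls : List (F 1)) (hl : Ls.length = j)
    (h : S.TC m Z Ls) : S.c j hZ = S.e (S.secs Z Ls) := by
  have h1 := (S.exists_chain j [(m, Z)] (by simpa using hZ)).choose_spec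
  exact S.e_secs_eq j hZ _ Ls h1.1 hl (h1.2 (m, Z) (by simp)) h

lemma c_zero {m : ℕ} {Z : Ob} (hZ : S.D m Z) : S.c 0 hZ = S.e Z :=
  S.c_eq 0 hZ [] rfl trivial

lemma c_eq_zero {j m : ℕ} {Z : Ob} (hZ : S.D m Z) (hj : m ≤ j) : S.c j hZ = 0 := by
  obtain ⟨Ls, h1, h2⟩ := S.exists_chain j [(m, Z)] (by simpa using hZ)
  have h3 : S.TC m Z Ls := h2 (m, Z) (by simp)
  rw [S.c_eq j hZ Ls h1 h3]
  apply S.e_zero
  have h4 := S.D_secs hZ Ls h3
  rwa [h1, Nat.sub_eq_zero_of_le hj] at h4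

/-- `c_j(Z.L) = c_{j+1}(Z)` for a transversal linear form `L`. -/
lemma c_sec_linear (j : ℕ) {m : ℕ} {Z : Ob} (hZ : S.D m Z) (L : F 1) (hL : S.D (m - 1) (S.sec Z L)) :
    S.c j hL = S.c (j + 1) hZ := by
  obtain ⟨Ls, h1, h2⟩ := S.exists_chain j [(m - 1, S.sec Z L)] (by simpa using hL)
  have h3 : S.TC (m - 1) (S.sec Z L) Ls := h2 (m - 1, S.sec Z L) (by simp)
  rw [S.c_eq j hL Ls h1 h3, S.c_eq (j + 1) hZ (L :: Ls) (by simp [h1]) ⟨hL, h3⟩, secs_cons]

/-- `c_j` of an iterated linear section. -/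
lemma c_secs (i j : ℕ) {m : ℕ} {Z : Ob} (hZ : S.D m Z) (Ls : List (F 1)) (hl : Ls.length = i)
    (h : S.TC m Z Ls) : S.c j (S.D_secs hZ Ls h) = S.c (i + j) hZ := by
  induction i generalizing m Z Ls with
  | zero =>
    rw [List.length_eq_zero_iff] at hl
    subst hl
    simp only [secs_nil, Nat.zero_add]
  | succ i ih =>
    match Ls, hl, h with
    | L :: Ls, hl, h =>
      have hl1 : Ls.length = i := by simpa using hl
      have h1 := ih h.1 Ls hl1 h.2
      have h2 := S.c_sec_linear (i + j) hZ L h.1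
      have h3 : i + 1 + j = i + j + 1 := by omega
      rw [h3, ← h2, ← h1]
      have hm : m - (L :: Ls).length = m - 1 - Ls.length := by
        rw [List.length_cons]; omega
      obtain ⟨Ms, hM1, hM2⟩ := S.exists_chain j [(m - 1 - Ls.length, S.secs (S.sec Z L) Ls)]
        (by simpa using S.D_secs h.1 Ls h.2)
      have hM3 : S.TC (m - 1 - Ls.length) (S.secs (S.sec Z L) Ls) Ms :=
        hM2 (m - 1 - Ls.length, S.secs (S.sec Z L) Ls) (by simp)
      rw [S.c_eq j (S.D_secs h.1 Ls h.2) Ms hM1 hM3]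
      rw [S.c_eq j (S.D_secs hZ (L :: Ls) h) Ms hM1 (by rw [hm]; exact hM3)]
      rfl

open PowerSeries

/-- The series `φ_a = a X / (1 + (a - 1) X)`. -/
noncomputable def phi (a : ℕ) : ℤ⟦X⟧ :=
  PowerSeries.mk fun j => if j = 0 then 0 else (-1) ^ (j - 1) * a * ((a : ℤ) - 1) ^ (j - 1)

lemma coeff_phi_zero (a : ℕ) : coeff 0 (phi a) = 0 := by simp [phi]

lemma coeff_phi_succ (a j : ℕ) : coeff (j + 1) (phi a) = (-1) ^ j * a * ((a : ℤ) - 1) ^ j := by
  simp [phi]

lemma phi_mul (a : ℕ) : phi a * (1 + C ((a : ℤ) - 1) * X) = C (a : ℤ) * X := by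
  ext j
  rw [mul_add, mul_one, map_add]
  rcases j with _ | j
  · simp [coeff_phi_zero]
  · have h1 : phi a * (C ((a : ℤ) - 1) * X) = C ((a : ℤ) - 1) * phi a * X := by ring
    rw [h1, coeff_succ_mul_X, coeff_C_mul, coeff_succ_mul_X, coeff_C, coeff_phi_succ]
    rcases j with _ | j
    · simp [coeff_phi_zero]
    · rw [coeff_phi_succ, if_neg (Nat.succ_ne_zero j)]
      ring

lemma phi_one : phi 1 = X := by
  have h := phi_mul 1
  simpa using h

lemma phi_succ (a : ℕ) :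
    phi (a + 1) = phi a + X - 2 * (X * phi a) + X * phi a * phi (a + 1) := by
  have h1 := phi_mul a
  have h2 := phi_mul (a + 1)
  have e2 : C (((a + 1 : ℕ) : ℤ) - 1) = (C (a : ℤ) : ℤ⟦X⟧) := by congr 1; push_cast; ring
  have e3 : (C ((a + 1 : ℕ) : ℤ) : ℤ⟦X⟧) = C (a : ℤ) + 1 := by push_cast; simp
  have e4 : (C ((a : ℤ) - 1) : ℤ⟦X⟧) = C (a : ℤ) - 1 := by simp
  rw [e2, e3] at h2
  rw [e4] at h1
  have hu : (1 + (C (a : ℤ) - 1) * X) * (1 + C (a : ℤ) * X) ≠ (0 : ℤ⟦X⟧) := by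
    intro h
    have := congrArg (coeff 0) h
    simp at this
  apply mul_left_cancel₀ hu
  linear_combination (1 + C (a : ℤ) * X) * (-1 + 2 * X - X * phi (a + 1)) * h1 +
    ((1 + (C (a : ℤ) - 1) * X) - C (a : ℤ) * X ^ 2) * h2

/-- The functional `X ^ j ↦ c_j(Z)`. -/
noncomputable def Lam {m : ℕ} {Z : Ob} (hZ : S.D m Z) (f : ℤ⟦X⟧) : ℤ :=
  ∑ j ∈ Finset.range m, coeff j f * S.c j hZ

lemma Lam_add {m : ℕ} {Z : Ob} (hZ : S.D m Z) (f g : ℤ⟦X⟧) :
    S.Lam hZ (f + g) = S.Lam hZ f + S.Lam hZ g := by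
  simp [Lam, add_mul, Finset.sum_add_distrib]

lemma Lam_C_mul {m : ℕ} {Z : Ob} (hZ : S.D m Z) (a : ℤ) (f : ℤ⟦X⟧) :
    S.Lam hZ (C a * f) = a * S.Lam hZ f := by
  rw [Lam, Lam, Finset.mul_sum]
  refine Finset.sum_congr rfl fun j _ => ?_
  rw [coeff_C_mul, mul_assoc]

lemma Lam_two_mul {m : ℕ} {Z : Ob} (hZ : S.D m Z) (f : ℤ⟦X⟧) :
    S.Lam hZ (2 * f) = 2 * S.Lam hZ f := by
  have h := S.Lam_C_mul hZ 2 f
  rw [← h]
  congr 2

lemma Lam_sub {m : ℕ} {Z : Ob} (hZ : S.D m Z) (f g : ℤ⟦X⟧) :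
    S.Lam hZ (f - g) = S.Lam hZ f - S.Lam hZ g := by
  simp [Lam, sub_mul, Finset.sum_sub_distrib]

lemma Lam_X_mul {m : ℕ} {Z : Ob} (hZ : S.D m Z) (L : F 1) (hL : S.D (m - 1) (S.sec Z L))
    (f : ℤ⟦X⟧) : S.Lam hZ (X * f) = S.Lam hL f := by
  rw [Lam, Lam]
  rcases m with _ | m
  · simp
  · rw [Finset.sum_range_succ']
    simp only [coeff_zero_X_mul, zero_mul, add_zero, Nat.add_sub_cancel]
    refine Finset.sum_congr rfl fun j _ => ?_
    rw [coeff_succ_X_mul, ← S.c_sec_linear j hZ L hL]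

lemma Lam_X_pow_mul {i m : ℕ} {Z : Ob} (hZ : S.D m Z) (Ls : List (F 1)) (hl : Ls.length = i)
    (h : S.TC m Z Ls) (f : ℤ⟦X⟧) : S.Lam hZ (X ^ i * f) = S.Lam (S.D_secs hZ Ls h) f := by
  induction i generalizing m Z Ls with
  | zero =>
    rw [List.length_eq_zero_iff] at hl
    subst hl
    simp [secs_nil]
  | succ i ih =>
    match Ls, hl, h with
    | L :: Ls, hl, h =>
      have hl1 : Ls.length = i := by simpa using hl
      have h1 := ih h.1 Ls hl1 h.2
      rw [pow_succ', mul_assoc, S.Lam_X_mul hZ L h.1, h1]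
      have hm : m - (L :: Ls).length = m - 1 - Ls.length := by
        rw [List.length_cons]; omega
      have key : ∀ {n n' : ℕ} (Z : Ob) (h1 : S.D n Z) (h2 : S.D n' Z), n = n' →
          S.Lam h1 f = S.Lam h2 f := by
        intro n n' Z h1 h2 e
        subst e
        rfl
      exact key _ _ _ hm.symm

lemma Lam_mul {m : ℕ} {Z : Ob} (hZ : S.D m Z) (g f : ℤ⟦X⟧) (hf : coeff 0 f = 0) :
    S.Lam hZ (g * f) = ∑ j ∈ Finset.range (m - 1), coeff j g * S.Lam hZ (X ^ j * f) := by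
  simp only [Lam, Finset.mul_sum]
  rw [Finset.sum_comm]
  refine Finset.sum_congr rfl fun i hi => ?_
  rw [Finset.mem_range] at hi
  rw [coeff_mul, Finset.Nat.sum_antidiagonal_eq_sum_range_succ (fun p q => coeff p g * coeff q f),
    Finset.sum_mul]
  have h1 : ∀ j, coeff i (X ^ j * f) = if j ≤ i then coeff (i - j) f else 0 := by
    intro j
    exact coeff_X_pow_mul' f j i
  simp only [h1]
  have h2 : ∑ j ∈ Finset.range (m - 1), coeff j g * ((if j ≤ i then coeff (i - j) f else 0) * S.c i hZ) =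
      ∑ j ∈ Finset.range m, coeff j g * ((if j ≤ i then coeff (i - j) f else 0) * S.c i hZ) := by
    rcases m with _ | m
    · rfl
    · rw [Nat.add_sub_cancel, Finset.sum_range_succ]
      have : (if m ≤ i then coeff (i - m) f else 0) = 0 := by
        split_ifs with h
        · have : i - m = 0 := by omega
          rw [this, hf]
        · rfl
      rw [this]
      ring
  rw [h2]
  have h3 : Finset.range i.succ ⊆ Finset.range m := by
    intro j hj
    rw [Finset.mem_range] at hj ⊢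
    omega
  rw [← Finset.sum_subset h3 (fun j _ hj => by
    rw [Finset.mem_range] at hj
    rw [if_neg (by omega)]
    ring)]
  refine Finset.sum_congr rfl fun j hj => ?_
  rw [Finset.mem_range] at hj
  rw [if_pos (by omega)]
  ring

lemma e_sec_linear {m : ℕ} {Z : Ob} (hZ : S.D m Z) (L : F 1) (hL : S.D (m - 1) (S.sec Z L)) :
    S.e (S.sec Z L) = S.Lam hZ X := by
  have h1 : S.e (S.sec Z L) = S.c 0 hL := (S.c_zero hL).symm
  rw [h1, S.c_sec_linear 0 hZ L hL, Lam]
  rcases m with _ | _ | m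
  · rw [S.c_eq_zero hZ (by omega)]; simp
  · rw [S.c_eq_zero hZ (by omega)]; simp
  · rw [Finset.sum_eq_single 1]
    · simp
    · intro j _ hj
      rw [coeff_X, if_neg hj, zero_mul]
    · intro h
      exact absurd (Finset.mem_range.2 (by omega)) h

/-- If the closed formula holds for the objects of dimension `< m`, then
`Λ_{Z.A}(X f) = Λ_Z (X f φ_a)`. -/
lemma Lam_sec {m a : ℕ} {Z : Ob} (hZ : S.D m Z) (A : F a)
    (hA : S.D (m - 1) (S.sec Z A))
    (IH : ∀ (m' : ℕ), m' < m → ∀ (Z' : Ob) (hZ' : S.D m' Z') (A' : F a),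
      S.D (m' - 1) (S.sec Z' A') → S.e (S.sec Z' A') = S.Lam hZ' (phi a))
    (f : ℤ⟦X⟧) : S.Lam hA (X * f) = S.Lam hZ (X * f * phi a) := by
  rw [S.Lam_mul hZ (X * f) (phi a) (coeff_phi_zero a), Lam]
  refine Finset.sum_congr rfl fun j hj => ?_
  rw [Finset.mem_range] at hj
  rcases j with _ | j
  · simp
  congr 1
  obtain ⟨Ls, h1, h2⟩ := S.exists_chain (j + 1) [(m, Z), (m - 1, S.sec Z A)] (by
    intro p hp
    simp only [List.mem_cons, List.not_mem_nil, or_false] at hp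
    rcases hp with rfl | rfl
    · exact hZ
    · exact hA)
  have k0 : S.TC m Z Ls := h2 (m, Z) (by simp)
  have k1 : S.TC (m - 1) (S.sec Z A) Ls := h2 (m - 1, S.sec Z A) (by simp)
  rw [S.c_eq (j + 1) hA Ls h1 k1, S.R_e (S.R_secs_comm Z A Ls), S.Lam_X_pow_mul hZ Ls h1 k0]
  refine IH (m - Ls.length) (by omega) _ _ A ?_
  have e1 : m - 1 - Ls.length = m - Ls.length - 1 := by omega
  rw [← e1]
  exact S.R_D (S.R_secs_comm Z A Ls) (S.D_secs hA Ls k1)

/-- **Closed formula**: `e(Z.A) = Λ_Z(φ_a)`. -/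
theorem e_sec_eq_Lam (m a : ℕ) (ha : 1 ≤ a) (Z : Ob) (hZ : S.D m Z) (A : F a)
    (hA : S.D (m - 1) (S.sec Z A)) : S.e (S.sec Z A) = S.Lam hZ (phi a) := by
  induction m using Nat.strong_induction_on generalizing a Z with
  | _ m IHm =>
  induction a, ha using Nat.le_induction with
  | base =>
    rw [phi_one]
    exact S.e_sec_linear hZ A hA
  | succ a ha IHa =>
    by_cases hm0 : m = 0
    · subst hm0
      rw [S.e_zero (S.D_zero A hZ)]
      simp [Lam]
    obtain ⟨A', hA'⟩ := S.bertini a ha [(m, Z)] (by simpa using hZ)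
    have a1 : S.D (m - 1) (S.sec Z A') := hA' (m, Z) (by simp)
    obtain ⟨L, hL⟩ := S.bertini 1 le_rfl [(m, Z), (m - 1, S.sec Z A')] (by
      intro p hp
      simp only [List.mem_cons, List.not_mem_nil, or_false] at hp
      rcases hp with rfl | rfl
      · exact hZ
      · exact a1)
    have l1 : S.D (m - 1) (S.sec Z L) := hL (m, Z) (by simp)
    have l2 : S.D (m - 1 - 1) (S.sec (S.sec Z A') L) := hL (m - 1, S.sec Z A') (by simp)
    obtain ⟨G, hG⟩ := S.bertini (a + 1) (by omega)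
      [(m, Z), (m - 1, S.sec Z A'), (m - 1, S.sec Z L), (m - 1 - 1, S.sec (S.sec Z A') L)] (by
      intro p hp
      simp only [List.mem_cons, List.not_mem_nil, or_false] at hp
      rcases hp with rfl | rfl | rfl | rfl
      · exact hZ
      · exact a1
      · exact l1
      · exact l2)
    have g1 : S.D (m - 1) (S.sec Z G) := hG (m, Z) (by simp)
    have g2 : S.D (m - 1 - 1) (S.sec (S.sec Z A') G) := hG (m - 1, S.sec Z A') (by simp)
    have g3 : S.D (m - 1 - 1) (S.sec (S.sec Z L) G) := hG (m - 1, S.sec Z L) (by simp)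
    have g4 : S.D (m - 1 - 1 - 1) (S.sec (S.sec (S.sec Z A') L) G) :=
      hG (m - 1 - 1, S.sec (S.sec Z A') L) (by simp)
    rw [S.const A G hZ hA g1, S.recur A' L G ha hZ a1 l1 g1 l2 g2 g3 g4]
    have t1 : S.e (S.sec Z A') = S.Lam hZ (phi a) := IHa A' a1
    have t2 : S.e (S.sec Z L) = S.Lam hZ X := S.e_sec_linear hZ L l1
    have t3 : S.e (S.sec (S.sec Z A') L) = S.Lam hZ (X * phi a) := by
      have h1 := IHm (m - 1) (by omega) 1 le_rfl (S.sec Z A') a1 L l2
      rw [h1, phi_one]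
      have h2 := S.Lam_sec hZ A' a1 (fun m' hm' Z' hZ' A'' h => IHm m' hm' a ha Z' hZ' A'' h) 1
      rw [mul_one] at h2
      exact h2
    have t4 : S.e (S.sec (S.sec (S.sec Z A') L) G) = S.Lam hZ (X * phi a * phi (a + 1)) := by
      have h1 := IHm (m - 1 - 1) (by omega) (a + 1) (by omega) (S.sec (S.sec Z A') L) l2 G g4
      rw [h1, ← S.Lam_X_mul a1 L l2]
      have h2 := S.Lam_sec hZ A' a1 (fun m' hm' Z' hZ' A'' h => IHm m' hm' a ha Z' hZ' A'' h)
        (phi (a + 1))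
      rw [h2]
      congr 1
      ring
    conv_rhs => rw [phi_succ]
    rw [t1, t2, t3, t4, S.Lam_add, S.Lam_sub, S.Lam_add, S.Lam_two_mul]

/-- **Closed formula**, explicit form. -/
theorem e_sec_eq (m a : ℕ) (ha : 1 ≤ a) (Z : Ob) (hZ : S.D (m + 1) Z) (A : F a)
    (hA : S.D m (S.sec Z A)) : S.e (S.sec Z A) =
      ∑ j ∈ Finset.range m, (-1) ^ j * (a : ℤ) * ((a : ℤ) - 1) ^ j * S.c (j + 1) hZ := by
  rw [S.e_sec_eq_Lam (m + 1) a ha Z hZ A hA, Lam, Finset.sum_range_succ', coeff_phi_zero, zero_mul,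
    add_zero]
  refine Finset.sum_congr rfl fun j _ => ?_
  rw [coeff_phi_succ]

end Sys

open Polynomial in
/-- The polynomial `∑_{j < n} (-1)^j T (T - 1)^j c_{j+1}`. -/
noncomputable def poly (n : ℕ) (c : ℕ → ℤ) : ℤ[X] :=
  ∑ j ∈ Finset.range n, Polynomial.C ((-1) ^ j * c (j + 1)) * (X * (X - 1) ^ j)

open Polynomial in
lemma eval_poly (n : ℕ) (c : ℕ → ℤ) (a : ℤ) : (poly n c).eval a =
    ∑ j ∈ Finset.range n, (-1) ^ j * a * (a - 1) ^ j * c (j + 1) := by
  rw [poly, Polynomial.eval_finsetSum]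
  refine Finset.sum_congr rfl fun j _ => ?_
  simp only [Polynomial.eval_mul, Polynomial.eval_C, Polynomial.eval_X, Polynomial.eval_pow,
    Polynomial.eval_sub, Polynomial.eval_one]
  ring

open Polynomial in
lemma natDegree_term (j : ℕ) : ((X : ℤ[X]) * (X - 1) ^ j).natDegree = j + 1 := by
  have h1 : ((X : ℤ[X]) - 1) = X - C 1 := by simp
  rw [h1, Polynomial.natDegree_mul Polynomial.X_ne_zero (pow_ne_zero _ (Polynomial.X_sub_C_ne_zero 1)),
    Polynomial.natDegree_X, Polynomial.natDegree_pow, Polynomial.natDegree_X_sub_C]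
  omega

open Polynomial in
lemma monic_term (j : ℕ) : ((X : ℤ[X]) * (X - 1) ^ j).Monic := by
  have h1 : ((X : ℤ[X]) - 1) = X - C 1 := by simp
  rw [h1]
  exact Polynomial.monic_X.mul ((Polynomial.monic_X_sub_C 1).pow j)

open Polynomial in
/-- The polynomial of S4033: degree `n`, leading coefficient `c_n`, for any constant `c₀`. -/
theorem exists_polynomial (n : ℕ) (hn : 1 ≤ n) (c : ℕ → ℤ) (hc : c n ≠ 0) (c₀ : ℤ) :
    ∃ f : ℤ[X], f.natDegree = n ∧ f.leadingCoeff = c n ∧ ∀ a : ℤ, f.eval a =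
      (-1) ^ (n - 1) * (∑ j ∈ Finset.range n, (-1) ^ j * a * (a - 1) ^ j * c (j + 1)) + c₀ := by
  obtain ⟨n, rfl⟩ : ∃ m, n = m + 1 := ⟨n - 1, by omega⟩
  rw [Nat.add_sub_cancel]
  let g : ℤ[X] := Polynomial.C ((-1) ^ n) * poly n c + Polynomial.C c₀
  let h : ℤ[X] := Polynomial.C (c (n + 1)) * (X * (X - 1) ^ n)
  have hg : g.natDegree < n + 1 := by
    have h1 : (poly n c).natDegree ≤ n := by
      refine Polynomial.natDegree_sum_le_of_forall_le _ _ fun j hj => ?_
      rw [Finset.mem_range] at hj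
      refine (Polynomial.natDegree_C_mul_le _ _).trans ?_
      rw [natDegree_term]
      omega
    have h2 : g.natDegree ≤ n := by
      refine Polynomial.natDegree_add_le_of_degree_le ?_ ?_
      · exact (Polynomial.natDegree_C_mul_le _ _).trans h1
      · rw [Polynomial.natDegree_C]; omega
    omega
  have hh : h.natDegree = n + 1 := by
    rw [Polynomial.natDegree_C_mul hc, natDegree_term]
  have hl : h.leadingCoeff = c (n + 1) := by
    rw [Polynomial.leadingCoeff_mul, Polynomial.leadingCoeff_C, (monic_term n).leadingCoeff, mul_one]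
  have hlt : g.natDegree < h.natDegree := by rw [hh]; exact hg
  refine ⟨g + h, ?_, ?_, fun a => ?_⟩
  · rw [Polynomial.natDegree_add_eq_right_of_natDegree_lt hlt, hh]
  · rw [Polynomial.leadingCoeff_add_of_degree_lt (Polynomial.degree_lt_degree hlt), hl]
  · rw [Finset.sum_range_succ]
    simp only [g, h, Polynomial.eval_add, Polynomial.eval_mul, Polynomial.eval_C, eval_poly,
      Polynomial.eval_X, Polynomial.eval_pow, Polynomial.eval_sub, Polynomial.eval_one]
    have h1 : ((-1 : ℤ)) ^ n * (-1) ^ n = 1 := by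
      rw [← mul_pow]; simp
    linear_combination (-(a * (a - 1) ^ n * c (n + 1))) * h1

end Groth.Agent.Lefpen.H590.Num
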