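import Groth.Agent.Lefpen.H590.SmStrict

/-!
# Contractions and vanishing cycles

`S = Spec R` strictly local, `t : Spec Ω ⟶ S` a geometric point, `X ⟶ S` with a section `z` and a
"contraction" onto `z` (an action of the monoid `A^1` with `1` acting as the identity and `0` as the
projection onto `z`, fixing the point `o = z(closed point)`).  Then
`H^q(Spec Ω, M) ⟶ H^q(X_(o) ×_S Spec Ω, M)` is bijective for all `q`.
-/

set_option autoImplicit false
universe u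

open CategoryTheory CategoryTheory.Limits AlgebraicGeometry Opposite IsLocalRing

namespace Groth.Agent.Lefpen.H590.Contr

open EtCoh Groth.Agent.EtpbcA Groth.Agent.EtpbcA.LA Groth.Agent.EtpbcB Groth.Agent.EtpbcB.BCIso
  Groth.Agent.Etrest.StrictLoc Groth.Agent.Sga1.UlaRes Groth.Agent.Sga1.UlaSL
  Groth.Agent.Vancyc.H675.AcycPt Groth.Agent.Lefpen.H590.SmStrict

section lifts

/-- Uniqueness of local lifts through a strict localization when the residue field of the strict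
localization is generated by a base ring. -/
theorem lift_unique {X : Scheme.{u}} {C D R : Type u} [CommRing C] [IsLocalRing C] [CommRing D]
    [HenselianLocalRing D] [CommRing R] {τ : Spec (CommRingCat.of C) ⟶ X} (hτ : IsStrictLoc τ)
    (α : R →+* C) (hα : ∀ c, ∃ r, residue C (α r) = residue C c) (u v : C →+* D) [IsLocalHom u]
    [IsLocalHom v] (h : spm u ≫ τ = spm v ≫ τ) (h' : u.comp α = v.comp α) : u = v := by
  have hr : ∀ c, residue D (v c) = residue D (u c) := by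
    intro c
    obtain ⟨r, hr⟩ := hα c
    have h1 : residue D (u c) = ResidueField.map u (residue C c) := rfl
    have h2 : residue D (v c) = ResidueField.map v (residue C c) := rfl
    rw [h1, h2, ← hr]
    exact congrArg (residue D) (congrArg (fun φ : R →+* D => φ r) h').symm
  obtain ⟨w, -, hu⟩ := hτ.universal D (spm u ≫ τ) (ResidueField.map u) (by
    rw [← Category.assoc, ← Category.assoc, resPt_spm])
  rw [hu u ⟨rfl, fun x => rfl⟩, hu v ⟨h.symm, hr⟩]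

/-- A strict localization has exactly one point over the point at which one localizes. -/
theorem eq_closedPoint {X : Scheme.{u}} {C : Type u} [CommRing C] [IsLocalRing C]
    {τ : Spec (CommRingCat.of C) ⟶ X} (hτ : IsStrictLoc τ) (y : Spec (CommRingCat.of C))
    (hy : τ y = τ (closedPoint C)) : y = closedPoint C := by
  obtain ⟨alg, loc, sh, h2⟩ := exists_specOf hτ _ rfl
  have h3 := Groth.Agent.Hensel.Exist.map_maximalIdeal_of_isStrictHenselization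
    (R := X.presheaf.stalk (τ (closedPoint C))) (S := C)
  have h4 : spm (algebraMap (X.presheaf.stalk (τ (closedPoint C))) C) y =
      closedPoint (X.presheaf.stalk (τ (closedPoint C))) := by
    apply (X.fromSpecStalk (τ (closedPoint C))).injective
    rw [Scheme.fromSpecStalk_closedPoint, ← Scheme.Hom.comp_apply]
    exact (congrArg (fun q : Spec (CommRingCat.of C) ⟶ X => q y) h2).trans hy
  have h5 : maximalIdeal C ≤ y.asIdeal := by
    rw [← h3, Ideal.map_le_iff_le_comap]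
    exact (congrArg PrimeSpectrum.asIdeal h4).ge
  exact PrimeSpectrum.ext ((maximalIdeal.isMaximal C).eq_of_le y.isPrime.ne_top h5).symm

/-- A strict localization at a generization factors through the strict localization. -/
theorem exists_factor {A : Scheme.{u}} {B D : Type u} [CommRing B] [IsLocalRing B] [CommRing D]
    [IsLocalRing D] {σ : Spec (CommRingCat.of B) ⟶ A} (hσ : IsStrictLoc σ)
    {δ : Spec (CommRingCat.of D) ⟶ A} (hδ : IsStrictLoc δ)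
    (h : δ (closedPoint D) ⤳ σ (closedPoint B)) :
    ∃ ρ : Spec (CommRingCat.of D) ⟶ Spec (CommRingCat.of B), ρ ≫ σ = δ := by
  have h1 := weaklyEtale_of_isStrictLoc hσ
  have h2 : Flat σ := inferInstance
  obtain ⟨y, hy1, hy2⟩ := Flat.generalizingMap σ h
  obtain ⟨D', _, _, ρ', hρ', hc⟩ := exists_isStrictLoc (Spec (CommRingCat.of B)) y
  obtain ⟨g, -, -, hg⟩ := (hρ'.comp σ).exists_equiv hδ (by rw [Scheme.Hom.comp_apply, hc, hy2])
  exact ⟨spm g ≫ ρ', by rw [Category.assoc, hg]⟩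

end lifts

section coh

variable {S : Scheme.{u}} {Ω : Type u} [Field Ω] (t : Spec (CommRingCat.of Ω) ⟶ S)
  (M : AddCommGrpCat.{u + 1})

/-- `H^q(Y ×_S Spec Ω, M)`. -/
abbrev E {Y : Scheme.{u}} (a : Y ⟶ S) (q : ℕ) : Type (u + 1) :=
  HT ((constU (Spec (CommRingCat.of Ω))).obj M) (pullback.snd a t) q

/-- the base change of an `S`-morphism. -/
noncomputable abbrev bcm {Y Y' : Scheme.{u}} (h : Y' ⟶ Y) (a : Y ⟶ S) (a' : Y' ⟶ S)
    (w : h ≫ a = a') : pullback a' t ⟶ pullback a t :=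
  pullback.lift (pullback.fst a' t ≫ h) (pullback.snd a' t)
    (by rw [Category.assoc, w, pullback.condition])

theorem isPullback_bcm {Y Y' : Scheme.{u}} (h : Y' ⟶ Y) (a : Y ⟶ S) (a' : Y' ⟶ S)
    (w : h ≫ a = a') : IsPullback (bcm t h a a' w) (pullback.fst a' t) (pullback.fst a t) h := by
  refine IsPullback.of_right (h₁₂ := pullback.snd a t) (h₂₂ := a) (v₁₃ := t) ?_
    (pullback.lift_fst _ _ _) (IsPullback.of_hasPullback a t).flip
  rw [pullback.lift_snd, w]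
  exact (IsPullback.of_hasPullback a' t).flip

/-- Functoriality of `E`. -/
noncomputable def Emap {Y Y' : Scheme.{u}} (h : Y' ⟶ Y) (a : Y ⟶ S) (a' : Y' ⟶ S)
    (w : h ≫ a = a') (q : ℕ) : E t M a q →+ E t M a' q :=
  res _ (bcm t h a a' w) _ _ (pullback.lift_snd _ _ _) q

theorem Emap_comp {Y Y' Y'' : Scheme.{u}} (h₂ : Y'' ⟶ Y') (h₁ : Y' ⟶ Y) (h : Y'' ⟶ Y)
    (hh : h₂ ≫ h₁ = h) (a : Y ⟶ S) (a' : Y' ⟶ S) (a'' : Y'' ⟶ S) (w₁ : h₁ ≫ a = a')
    (w₂ : h₂ ≫ a' = a'') (w : h ≫ a = a'') (q : ℕ) (e : E t M a q) :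
    Emap t M h₂ a' a'' w₂ q (Emap t M h₁ a a' w₁ q e) = Emap t M h a a'' w q e := by
  refine res_comp _ _ _ _ ?_ _ _ _ _ _ _ q e
  apply pullback.hom_ext
  · rw [Category.assoc, pullback.lift_fst, pullback.lift_fst, ← Category.assoc, pullback.lift_fst,
      Category.assoc, hh]
  · rw [Category.assoc, pullback.lift_snd, pullback.lift_snd, pullback.lift_snd]

theorem Emap_id {Y : Scheme.{u}} (a : Y ⟶ S) (w : 𝟙 Y ≫ a = a) (q : ℕ) (e : E t M a q) :
    Emap t M (𝟙 Y) a a w q e = e := by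
  have h1 : IsIso (bcm t (𝟙 Y) a a w) := by
    have : bcm t (𝟙 Y) a a w = 𝟙 _ := by
      apply pullback.hom_ext
      · rw [pullback.lift_fst, Category.comp_id, Category.id_comp]
      · rw [pullback.lift_snd, Category.id_comp]
    rw [this]
    infer_instance
  have h2 := Emap_comp t M (𝟙 Y) (𝟙 Y) (𝟙 Y) (Category.comp_id _) a a a w w w q e
  exact (res_bijective _ (bcm t (𝟙 Y) a a w) _ _ (pullback.lift_snd _ _ _) q).1 h2

theorem Emap_congr {Y Y' : Scheme.{u}} (h h' : Y' ⟶ Y) (a : Y ⟶ S) (a' : Y' ⟶ S)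
    (w : h ≫ a = a') (w' : h' ≫ a = a') (hh : h = h') (q : ℕ) (e : E t M a q) :
    Emap t M h a a' w q e = Emap t M h' a a' w' q e := by
  subst hh
  rfl

theorem Emap_bijective_iff {Y Y' : Scheme.{u}} (h : Y' ⟶ Y) (a : Y ⟶ S) (a' : Y' ⟶ S)
    (w : h ≫ a = a') (q : ℕ) : Function.Bijective (Emap t M h a a' w q) ↔
      Function.Bijective (EtCore.Hpull (bcm t h a a' w) ((constU (pullback a t)).obj M) q) := by
  rw [Emap, res_bijective_iff,
    Etrest.HpullConst.bijective_Hpull_iff_of_iso _ q (pullConstU (pullback.snd a t) M)]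

end coh

section main

variable {R : Type u} [CommRing R] [HenselianLocalRing R] [IsSepClosed (ResidueField R)]
  {Ω : Type u} [Field Ω] (t : Spec (CommRingCat.of Ω) ⟶ Spec (CommRingCat.of R))
  {X : Scheme.{u}} (π : X ⟶ Spec (CommRingCat.of R)) (z : Spec (CommRingCat.of R) ⟶ X)
  (hz : z ≫ π = 𝟙 _) {C : Type u} [CommRing C] [IsLocalRing C] {τ : Spec (CommRingCat.of C) ⟶ X}
  (hτ : IsStrictLoc τ) (hτz : τ (closedPoint C) = z (closedPoint R))
  {A : Scheme.{u}} (g : A ⟶ Spec (CommRingCat.of C)) [Smooth g] (m : A ⟶ X)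
  (hm : m ≫ π = g ≫ τ ≫ π) (hmc : ∀ x : A, g x = closedPoint C → m x = z (closedPoint R))
  (s₀ s₁ : Spec (CommRingCat.of C) ⟶ A) (hs₀ : s₀ ≫ g = 𝟙 _) (hs₁ : s₁ ≫ g = 𝟙 _)
  (hm₀ : s₀ ≫ m = τ ≫ π ≫ z) (hm₁ : s₁ ≫ m = τ)
  (η : A) (hη : g η = closedPoint C) (hη₀ : η ⤳ s₀ (closedPoint C))
  (hη₁ : η ⤳ s₁ (closedPoint C))
  (N : ℕ) (hN : IsUnit (N : C)) (M : AddCommGrpCat.{u + 1}) (hM : ∀ m : M, N • m = 0) (q : ℕ)

include hτ hN hM in
/-- pull-back along a strict localization of a smooth `Spec C`-scheme. -/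
theorem bijective_p {B : Type u} [CommRing B] [IsLocalRing B] {σ : Spec (CommRingCat.of B) ⟶ A}
    (hσ : IsStrictLoc σ) (hc : g (σ (closedPoint B)) = closedPoint C) {T : Scheme.{u}}
    (t : Spec (CommRingCat.of Ω) ⟶ T) (a : Spec (CommRingCat.of C) ⟶ T)
    (a' : Spec (CommRingCat.of B) ⟶ T) (w : (σ ≫ g) ≫ a = a') :
    Function.Bijective (Emap t M (σ ≫ g) a a' w q) := by
  have := hτ.henselian
  have := hτ.sepClosed
  rw [Emap_bijective_iff]
  exact bijective_Hpull_strict g hσ hc N hN M hM (pullback.fst a t) (isPullback_bcm t _ a a' w) q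

include hz hτ hτz hm hmc hs₀ hs₁ hm₀ hm₁ hη hη₀ hη₁ hN hM in
theorem bijective_Emap : Function.Bijective
    (Emap t M (τ ≫ π) (𝟙 (Spec (CommRingCat.of R))) (τ ≫ π) (Category.comp_id _) q) := by
  have hC := hτ.henselian
  have hC' := hτ.sepClosed
  -- `γ : C → R` and `α : R → C`
  obtain ⟨γ, hγl, hγ⟩ := Etrest.VCBaseChange.exists_map hτ z hτz.symm
  obtain ⟨α, hα⟩ : ∃ α : R →+* C, spm α = τ ≫ π :=
    ⟨(Spec.preimage (τ ≫ π)).hom, Spec.map_preimage (τ ≫ π)⟩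
  have hγα : γ.comp α = RingHom.id R := by
    rw [← spm_inj, spm_comp, hα, ← Category.assoc, hγ, hz, spm_id]
  have hγα' : ∀ r, γ (α r) = r := fun r => congrArg (fun φ : R →+* R => φ r) hγα
  have hαl : IsLocalHom α := ⟨fun r hr => by
    have := hr.map γ
    rwa [hγα'] at this⟩
  have hres : ∀ c, ∃ r, residue C (α r) = residue C c := by
    intro c
    refine ⟨γ c, ?_⟩
    rw [← sub_eq_zero, ← map_sub, residue_eq_zero_iff]
    rw [mem_maximalIdeal, mem_nonunits_iff]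
    intro hu
    have := hu.map γ
    rw [map_sub, hγα', sub_self] at this
    exact not_isUnit_zero this
  -- lifts at the closed points of the two sections
  have hstep : ∀ (s : Spec (CommRingCat.of C) ⟶ A), s ≫ g = 𝟙 _ → ∀ (x : E t M (τ ≫ π) q)
      (κ : C →+* C) (_ : IsLocalHom κ), s ≫ m = spm κ ≫ τ → κ.comp α = α →
      ∀ (y : E t M (τ ≫ π) q) (hκ : spm κ ≫ τ ≫ π = τ ≫ π), 
      Emap t M (spm κ) (τ ≫ π) (τ ≫ π) hκ q x = y →
      ∀ {B : Type u} [CommRing B] [IsLocalRing B] (σ : Spec (CommRingCat.of B) ⟶ A) (_ : IsStrictLoc σ)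
      (_ : σ (closedPoint B) = s (closedPoint C)), ∃ (n : C →+* B) (_ : IsLocalHom n) (_ : spm n ≫ τ = σ ≫ m)
        (w : spm n ≫ τ ≫ π = (σ ≫ g) ≫ τ ≫ π),
        Emap t M (spm n) (τ ≫ π) ((σ ≫ g) ≫ τ ≫ π) w q x =
        Emap t M (σ ≫ g) (τ ≫ π) ((σ ≫ g) ≫ τ ≫ π) rfl q y := by
    intro s hs x κ hκl hκ hκα y hκ2 hy B _ _ σ hσ hσs
    have hB := hσ.henselian
    have hB' := hσ.sepClosed
    have hsc : g (s (closedPoint C)) = closedPoint C := by
      rw [← Scheme.Hom.comp_apply, hs]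
      rfl
    have hσc : g (σ (closedPoint B)) = closedPoint C := by rw [hσs, hsc]
    obtain ⟨n, hnl, hn⟩ := Etrest.VCBaseChange.exists_map hτ (σ ≫ m) (by
      rw [Scheme.Hom.comp_apply, hmc _ hσc, hτz])
    obtain ⟨e, hel, he⟩ := Etrest.VCBaseChange.exists_map hσ s hσs.symm
    have w : spm n ≫ τ ≫ π = (σ ≫ g) ≫ τ ≫ π := by
      rw [← Category.assoc, hn, Category.assoc, hm, Category.assoc]
    refine ⟨n, hnl, hn, w, ?_⟩
    have hep : spm e ≫ σ ≫ g = 𝟙 _ := by rw [← Category.assoc, he, hs]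
    have w' : spm e ≫ (σ ≫ g) ≫ τ ≫ π = τ ≫ π := by
      rw [← Category.assoc, hep, Category.id_comp]
    -- `e ∘ n = κ`
    have hen : e.comp n = κ := by
      refine lift_unique hτ α hres _ _ ?_ ?_
      · rw [spm_comp, Category.assoc, hn, ← Category.assoc, he, hκ]
      · rw [hκα, ← spm_inj, spm_comp, spm_comp, hα, Category.assoc, w, w']
    have h1 : ∀ v, Emap t M (spm e) ((σ ≫ g) ≫ τ ≫ π) (τ ≫ π) w' q
        (Emap t M (σ ≫ g) (τ ≫ π) ((σ ≫ g) ≫ τ ≫ π) rfl q v) = v := fun v => by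
      rw [Emap_comp t M _ _ _ hep _ _ _ _ _ (Category.id_comp _) q v, Emap_id]
    have h2 : Emap t M (spm e) ((σ ≫ g) ≫ τ ≫ π) (τ ≫ π) w' q
        (Emap t M (spm n) (τ ≫ π) ((σ ≫ g) ≫ τ ≫ π) w q x) = y := by
      rw [Emap_comp t M _ _ (spm κ) (by rw [← hen, spm_comp]) _ _ _ _ _ hκ2 q x, hy]
    have h3 := bijective_p hτ g N hN M hM q hσ hσc t (τ ≫ π) ((σ ≫ g) ≫ τ ≫ π) rfl
    obtain ⟨v, hv⟩ := h3.2 (Emap t M (spm n) (τ ≫ π) ((σ ≫ g) ≫ τ ≫ π) w q x)
    rw [← hv, h1] at h2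
    rw [← hv, h2]
  have hα1 : (RingHom.id C).comp α = α := RingHom.id_comp α
  have hα0 : (α.comp γ).comp α = α := by rw [RingHom.comp_assoc, hγα, RingHom.comp_id]
  have wγ : spm γ ≫ τ ≫ π = 𝟙 _ := by rw [← Category.assoc, hγ, hz]
  have hinj : ∀ v, Emap t M (spm γ) (τ ≫ π) (𝟙 _) wγ q (Emap t M (τ ≫ π) (𝟙 _) (τ ≫ π)
      (Category.comp_id _) q v) = v := fun v => by
    rw [Emap_comp t M _ _ _ wγ _ _ _ _ _ (Category.id_comp _) q v, Emap_id]
  refine ⟨fun v v' hv => by rw [← hinj v, hv, hinj], fun x => ⟨Emap t M (spm γ) (τ ≫ π) (𝟙 _) wγ q x, ?_⟩⟩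
  -- strict localizations
  obtain ⟨B₀, _, _, σ₀, hσ₀, hc₀⟩ := exists_isStrictLoc A (s₀ (closedPoint C))
  obtain ⟨B₁, _, _, σ₁, hσ₁, hc₁⟩ := exists_isStrictLoc A (s₁ (closedPoint C))
  obtain ⟨D, _, _, δ, hδ, hcδ⟩ := exists_isStrictLoc A η
  have hD := hδ.henselian
  obtain ⟨ρ₀, hρ₀⟩ := exists_factor hσ₀ hδ (by rwa [hcδ, hc₀])
  obtain ⟨ρ₁, hρ₁⟩ := exists_factor hσ₁ hδ (by rwa [hcδ, hc₁])
  obtain ⟨n₁, hn₁l, hn₁, w₁, h₁⟩ := hstep s₁ hs₁ x (RingHom.id C) inferInstance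
    (by rw [hm₁, spm_id, Category.id_comp]) hα1 x (by rw [spm_id, Category.id_comp])
    (by 
      rw [Emap_congr t M _ (𝟙 _) _ _ _ (Category.id_comp _) (spm_id _), Emap_id]) σ₁ hσ₁ hc₁
  obtain ⟨n₀, hn₀l, hn₀, w₀, h₀⟩ := hstep s₀ hs₀ x (α.comp γ) inferInstance
    (by rw [hm₀, spm_comp, Category.assoc, hγ, hα, Category.assoc]) hα0 
    (Emap t M (τ ≫ π) (𝟙 _) (τ ≫ π) (Category.comp_id _) q
      (Emap t M (spm γ) (τ ≫ π) (𝟙 _) wγ q x))
    (by rw [spm_comp, Category.assoc, wγ, Category.comp_id, hα])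
    (by
      rw [Emap_comp t M (τ ≫ π) (spm γ) (spm (α.comp γ)) (by rw [spm_comp, hα]) _ _ _ _ _
        (by rw [spm_comp, Category.assoc, wγ, Category.comp_id, hα]) q x]) σ₀ hσ₀ hc₀
  -- compare on the strict localization at `η`
  have hn : ρ₀ ≫ spm n₀ = ρ₁ ≫ spm n₁ := by
    obtain ⟨u₀, hu₀⟩ : ∃ u : C →+* D, spm u = ρ₀ ≫ spm n₀ :=
      ⟨(Spec.preimage (ρ₀ ≫ spm n₀)).hom, Spec.map_preimage _⟩
    obtain ⟨u₁, hu₁⟩ : ∃ u : C →+* D, spm u = ρ₁ ≫ spm n₁ :=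
      ⟨(Spec.preimage (ρ₁ ≫ spm n₁)).hom, Spec.map_preimage _⟩
    have k₀ : spm u₀ ≫ τ = δ ≫ m := by rw [hu₀, Category.assoc, hn₀, ← Category.assoc, hρ₀]
    have k₁ : spm u₁ ≫ τ = δ ≫ m := by rw [hu₁, Category.assoc, hn₁, ← Category.assoc, hρ₁]
    have hloc : ∀ u : C →+* D, spm u ≫ τ = δ ≫ m → IsLocalHom u := by
      intro u hu
      have h1 : spm u (closedPoint D) = closedPoint C := by
        apply eq_closedPoint hτ
        rw [← Scheme.Hom.comp_apply, hu, Scheme.Hom.comp_apply, hcδ, hmc _ hη, hτz]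
      refine ⟨fun a ha => ?_⟩
      by_contra hna
      have h2 : a ∈ (closedPoint C).asIdeal := hna
      rw [← h1] at h2
      exact h2 ha
    have := hloc u₀ k₀
    have := hloc u₁ k₁
    rw [← hu₀, ← hu₁]
    congr 2
    refine lift_unique hτ α hres _ _ (by rw [k₀, k₁]) ?_
    rw [← spm_inj, spm_comp, spm_comp, hα, ← Category.assoc, k₀, ← Category.assoc, k₁]
  have hδc : g (δ (closedPoint D)) = closedPoint C := by rw [hcδ, hη]
  have hpδ := bijective_p hτ g N hN M hM q hδ hδc t (τ ≫ π) ((δ ≫ g) ≫ τ ≫ π) rfl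
  apply hpδ.1
  have v₀ : ρ₀ ≫ (σ₀ ≫ g) ≫ τ ≫ π = (δ ≫ g) ≫ τ ≫ π := by rw [← hρ₀]; simp
  have v₁ : ρ₁ ≫ (σ₁ ≫ g) ≫ τ ≫ π = (δ ≫ g) ≫ τ ≫ π := by rw [← hρ₁]; simp
  have r₀ := congrArg (Emap t M ρ₀ _ _ v₀ q) h₀
  have r₁ := congrArg (Emap t M ρ₁ _ _ v₁ q) h₁
  rw [Emap_comp t M ρ₀ (σ₀ ≫ g) (δ ≫ g) (by rw [← Category.assoc, hρ₀]) _ _ _ _ _ rfl q _] at r₀
  rw [Emap_comp t M ρ₁ (σ₁ ≫ g) (δ ≫ g) (by rw [← Category.assoc, hρ₁]) _ _ _ _ _ rfl q _] at r₁
  rw [Emap_comp t M ρ₀ (spm n₀) (ρ₀ ≫ spm n₀) rfl _ _ _ _ _ (by rw [Category.assoc, w₀, v₀]) q _] at r₀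
  rw [Emap_comp t M ρ₁ (spm n₁) (ρ₁ ≫ spm n₁) rfl _ _ _ _ _ (by rw [Category.assoc, w₁, v₁]) q _] at r₁
  rw [← r₀, ← r₁]
  exact Emap_congr t M _ _ _ _ _ _ hn q x

end main

end Groth.Agent.Lefpen.H590.Contr
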