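import Groth.Agent.Lefpen.H590.Contr
import Groth.Agent.Etrest.SHPoint

/-!
# Contracting actions of the affine line on affine schemes and vanishing cycles

`R` strictly henselian local, `P` an `R`-algebra with an augmentation `ε : P → R` and a coaction
`Δ : P → P[λ]` with `Δ|_{λ=1} = id`, `Δ|_{λ=0} = ε` and `ε ∘ Δ = ε`.  Then for every geometric point `t` of
`Spec R` the morphism `j : Spec P ×_R t ⟶ Spec P` satisfies `M = R j_* M` at the origin `ε(closed point)`,
for every abelian group `M` killed by an integer invertible in `R`.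
-/

set_option autoImplicit false
universe u

open CategoryTheory CategoryTheory.Limits AlgebraicGeometry Opposite IsLocalRing Polynomial

namespace Groth.Agent.Lefpen.H590.ContrAlg

open EtCoh Groth.Agent.EtpbcA Groth.Agent.EtpbcA.LA Groth.Agent.EtpbcB Groth.Agent.EtpbcB.BCIso
  Groth.Agent.Etrest.StrictLoc Groth.Agent.Sga1.UlaRes Groth.Agent.Sga1.UlaSL
  Groth.Agent.Vancyc.H675.AcycPt Groth.Agent.Lefpen.H590.SmStrict Groth.Agent.Lefpen.H590.Contr

theorem smooth_C (C : Type u) [CommRing C] : Smooth (spm (Polynomial.C : C →+* C[X])) := by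
  change Smooth (Spec.map (CommRingCat.ofHom (algebraMap C C[X])))
  rw [HasRingHomProperty.Spec_iff (P := @Smooth)]
  have : Algebra.Smooth C C[X] := {}
  exact RingHom.smooth_algebraMap.2 this

section alg

variable {R P : Type u} [CommRing R] [CommRing P] [Algebra R P]
  (ε : P →ₐ[R] R) (Δ : P →ₐ[R] P[X])
  (h1 : ∀ p, (Δ p).eval 1 = p) (h0 : ∀ p, (Δ p).eval 0 = algebraMap R P (ε p))
  (hε : ∀ p, (Δ p).map ε.toRingHom = Polynomial.C (ε p))
  {C : Type u} [CommRing C] (θ : P →+* C)

/-- the action on `C`-points. -/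
noncomputable def act : P →+* C[X] := (Polynomial.mapRingHom θ).comp Δ.toRingHom

theorem act_apply (p : P) : act Δ θ p = (Δ p).map θ := rfl

theorem act_algebraMap (r : R) : act Δ θ (algebraMap R P r) = Polynomial.C (θ (algebraMap R P r)) := by
  rw [act_apply, AlgHom.commutes, Polynomial.algebraMap_apply, Polynomial.map_C]

theorem eval_act (c : P) (p : P) : (act Δ θ p).eval (θ c) = θ ((Δ p).eval c) := by
  rw [act_apply, Polynomial.eval_map, Polynomial.eval₂_at_apply]

include h1 in
theorem eval_one_act (p : P) : (act Δ θ p).eval 1 = θ p := by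
  have := eval_act Δ θ 1 p
  rwa [map_one, h1] at this

include h0 in
theorem eval_zero_act (p : P) : (act Δ θ p).eval 0 = θ (algebraMap R P (ε p)) := by
  have := eval_act Δ θ 0 p
  rwa [map_zero, h0] at this

variable [IsLocalRing R] [IsLocalRing C]

include hε in
theorem comap_act (hθ : (maximalIdeal C).comap θ = (maximalIdeal R).comap ε.toRingHom)
    (𝔮 : Ideal C[X]) [h𝔮 : 𝔮.IsPrime] (hC : 𝔮.comap Polynomial.C = maximalIdeal C) :
    𝔮.comap (act Δ θ) = (maximalIdeal R).comap ε.toRingHom := by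
  have hsurj : Function.Surjective ε.toRingHom := fun r => ⟨algebraMap R P r, ε.commutes r⟩
  have hmax : ((maximalIdeal R).comap ε.toRingHom).IsMaximal :=
    Ideal.comap_isMaximal_of_surjective _ hsurj
  refine (hmax.eq_of_le (h𝔮.comap (act Δ θ)).ne_top fun p hp => ?_).symm
  have hco : ∀ i, Polynomial.C (θ ((Δ p).coeff i)) ∈ 𝔮 := by
    intro i
    have h2 : (Δ p).coeff i ∈ (maximalIdeal C).comap θ := by
      rw [hθ, Ideal.mem_comap]
      have h3 := congrArg (fun f : R[X] => f.coeff i) (hε p)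
      simp only [Polynomial.coeff_map, Polynomial.coeff_C] at h3
      rw [h3]
      split_ifs with hi
      · exact hp
      · exact Ideal.zero_mem _
    rw [← hC] at h2
    exact h2
  change act Δ θ p ∈ 𝔮
  rw [act_apply, Polynomial.as_sum_range_C_mul_X_pow ((Δ p).map θ)]
  refine Ideal.sum_mem _ fun i _ => Ideal.mul_mem_right _ _ ?_
  rw [Polynomial.coeff_map]
  exact hco i

end alg

section main

variable {R P : Type u} [CommRing R] [HenselianLocalRing R] [IsSepClosed (ResidueField R)]
  [CommRing P] [Algebra R P]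
  (ε : P →ₐ[R] R) (Δ : P →ₐ[R] P[X])
  (h1 : ∀ p, (Δ p).eval 1 = p) (h0 : ∀ p, (Δ p).eval 0 = algebraMap R P (ε p))
  (hε : ∀ p, (Δ p).map ε.toRingHom = Polynomial.C (ε p))
  {Ω : Type u} [Field Ω] (t : Spec (CommRingCat.of Ω) ⟶ Spec (CommRingCat.of R))
  (N : ℕ) (hN : IsUnit (N : R)) (M : AddCommGrpCat.{u + 1}) (hM : ∀ m : M, N • m = 0) (q : ℕ)

include h1 h0 hε hN hM in
theorem bijective_Emap_alg {C : Type u} [CommRing C] [IsLocalRing C]
    {τ : Spec (CommRingCat.of C) ⟶ Spec (CommRingCat.of P)} (hτ : IsStrictLoc τ)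
    (hτc : τ (closedPoint C) = spm ε.toRingHom (closedPoint R)) :
    Function.Bijective (Emap t M (τ ≫ spm (algebraMap R P)) (𝟙 (Spec (CommRingCat.of R)))
      (τ ≫ spm (algebraMap R P)) (Category.comp_id _) q) := by
  obtain ⟨θ, rfl⟩ : ∃ θ : P →+* C, τ = spm θ :=
    ⟨(Spec.preimage τ).hom, (Spec.map_preimage τ).symm⟩
  have hθ : (maximalIdeal C).comap θ = (maximalIdeal R).comap ε.toRingHom :=
    congrArg PrimeSpectrum.asIdeal hτc
  have hsm := smooth_C C
  have hsec : ∀ c : C, spm (Polynomial.evalRingHom c) ≫ spm (Polynomial.C : C →+* C[X]) = 𝟙 _ := by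
    intro c
    rw [← spm_comp, ← spm_id]
    congr 2
    exact RingHom.ext fun x => Polynomial.eval_C
  let η : Spec (CommRingCat.of C[X]) :=
    (⟨(maximalIdeal C).map Polynomial.C, Ideal.isPrime_map_C_of_isPrime⟩ : PrimeSpectrum C[X])
  have hηm : ∀ c : C, (maximalIdeal C).map Polynomial.C ≤
      (maximalIdeal C).comap (Polynomial.evalRingHom c) := by
    intro c
    rw [Ideal.map_le_iff_le_comap, Ideal.comap_comap]
    intro x hx
    simpa using hx
  have hη : ∀ c : C, η ⤳ spm (Polynomial.evalRingHom c) (closedPoint C) := by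
    intro c
    exact (PrimeSpectrum.le_iff_specializes (R := C[X]) _ _).1 (hηm c)
  have hηc : spm (Polynomial.C : C →+* C[X]) η = closedPoint C := by
    apply PrimeSpectrum.ext
    change Ideal.comap Polynomial.C ((maximalIdeal C).map Polynomial.C) = maximalIdeal C
    refine le_antisymm ?_ Ideal.le_comap_map
    intro x hx
    have := hηm 0 hx
    simpa using this
  refine bijective_Emap t (spm (algebraMap R P)) (spm ε.toRingHom) ?_ hτ hτc
    (spm (Polynomial.C : C →+* C[X])) (spm (act Δ θ)) ?_ ?_ (spm (Polynomial.evalRingHom 0))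
    (spm (Polynomial.evalRingHom 1)) (hsec 0) (hsec 1) ?_ ?_ η hηc (hη 0) (hη 1) N ?_ M hM q
  · rw [← spm_comp, ← spm_id, spm_inj]
    exact RingHom.ext fun x => ε.commutes x
  · rw [← spm_comp, ← spm_comp, ← spm_comp, spm_inj]
    refine RingHom.ext fun x => ?_
    exact act_algebraMap Δ θ x
  · intro x hx
    apply PrimeSpectrum.ext
    have : x.asIdeal.IsPrime := x.isPrime
    exact comap_act ε Δ hε θ hθ x.asIdeal (congrArg PrimeSpectrum.asIdeal hx)
  · rw [← spm_comp, ← spm_comp, ← spm_comp, spm_inj]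
    refine RingHom.ext fun x => ?_
    exact eval_zero_act ε Δ h0 θ x
  · rw [← spm_comp, spm_inj]
    refine RingHom.ext fun x => ?_
    exact eval_one_act Δ h1 θ x
  · have := hN.map (θ.comp (algebraMap R P))
    rwa [map_natCast] at this

theorem isSepClosed_residueField [IsSepClosed Ω] : IsSepClosed (ResidueField Ω) :=
  Groth.Agent.Etrest.SHPoint.isSepClosed_residueField Ω

include h1 h0 hε hN hM in
/-- `H^q(Spec Ω, M) = H^q(Spec C ×_R Spec Ω, M)`. -/
theorem bijective_Hpull_snd {C : Type u} [CommRing C] [IsLocalRing C]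
    {τ : Spec (CommRingCat.of C) ⟶ Spec (CommRingCat.of P)} (hτ : IsStrictLoc τ)
    (hτc : τ (closedPoint C) = spm ε.toRingHom (closedPoint R)) :
    Function.Bijective (EtCore.Hpull (pullback.snd (τ ≫ spm (algebraMap R P)) t)
      ((constU (Spec (CommRingCat.of Ω))).obj M) q) := by
  have h2 := (Emap_bijective_iff t M _ _ _ _ q).1
    (bijective_Emap_alg ε Δ h1 h0 hε t N hN M hM q hτ hτc)
  have h3 := (comp_iff (bcm t (τ ≫ spm (algebraMap R P)) (𝟙 _) _ (Category.comp_id _))
    (pullback.snd (𝟙 (Spec (CommRingCat.of R))) t) M q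
    (Groth.Agent.Etrest.IsoInv.bijective_Hpull _ _ q)).2 h2
  rwa [pullback.lift_snd] at h3

include h1 h0 hε hN hM in
/-- **Vanishing cycles at the fixed point of a contracting action.** -/
theorem laStalk_contr [IsSepClosed Ω] {Y : Scheme.{u}} {j : Y ⟶ Spec (CommRingCat.of P)}
    {y : Y ⟶ Spec (CommRingCat.of Ω)} (sq : IsPullback j y (spm (algebraMap R P)) t)
    {K : Type u} [Field K] [IsSepClosed K] (ξ : Spec (CommRingCat.of K) ⟶ Spec (CommRingCat.of P))
    (hξ : ξ default = spm ε.toRingHom (closedPoint R)) :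
    LAStalk j ((constU (Spec (CommRingCat.of P))).obj M) ξ := by
  obtain ⟨C, _, _, τ, hτ, hτc⟩ := exists_isStrictLoc (Spec (CommRingCat.of P)) (ξ default)
  have haff : IsAffineHom j := MorphismProperty.of_isPullback sq.flip
    (inferInstanceAs (IsAffineHom t))
  have hC := hτ.henselian
  have hC' := hτ.sepClosed
  have hO' := isSepClosed_residueField (Ω := Ω)
  have sq2 := IsPullback.of_hasPullback (τ ≫ spm (algebraMap R P)) t
  let c : pullback (τ ≫ spm (algebraMap R P)) t ⟶ Y :=
    sq.lift (pullback.fst _ _ ≫ τ) (pullback.snd _ _) (by rw [Category.assoc, sq2.w])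
  have hc1 : c ≫ j = pullback.fst _ _ ≫ τ := sq.lift_fst _ _ _
  have hc2 : c ≫ y = pullback.snd _ _ := sq.lift_snd _ _ _
  have sq3 : IsPullback c (pullback.fst (τ ≫ spm (algebraMap R P)) t) j τ := by
    refine IsPullback.of_right (h₁₂ := y) (h₂₂ := spm (algebraMap R P)) (v₁₃ := t) ?_ hc1 sq.flip
    rw [hc2]
    exact sq2.flip
  refine (laStalk_iff_res j _ ξ hτ hτc.symm sq3).2 fun q => ?_
  rw [res_iff]
  rw [sq_iff sq2.w M q (bijective_Hpull_local (V := C) _ M q) (bijective_Hpull_local (V := Ω) _ M q)]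
  exact bijective_Hpull_snd ε Δ h1 h0 hε t N hN M hM q hτ (hτc.trans hξ)

end main

end Groth.Agent.Lefpen.H590.ContrAlg
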