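import Groth.Agent.Lefpen.H590.ContrAlg
import Groth.Agent.Etbase.OverStalk

/-!
# Vanishing cycles at the vertex of a weighted homogeneous hypersurface over a strictly local ring

`R` strictly henselian local, `f` a weighted homogeneous polynomial over `R` of positive degree in variables
of positive weights, `V = Spec R[x]/(f)`, `t : Spec Ω ⟶ Spec R` a geometric point, `j : V_t ⟶ V` and `ξ` a
geometric point at the vertex of the closed fibre.  For every abelian group `M` killed by an integer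
invertible in `R`: `(R^q j_* M)_ξ = 0` for `q > 0` and `(j_* M)_ξ = M`.

The case needed for pencils: `f = X 0 * X 1 + C s * X 2` (`laStalk_M2`, `stalk_M2`).
-/

set_option autoImplicit false
universe u

open CategoryTheory CategoryTheory.Limits AlgebraicGeometry Opposite IsLocalRing

namespace Groth.Agent.Lefpen.H590.ContrCone

open EtCoh Groth.Agent.EtpbcA Groth.Agent.EtpbcA.LA Groth.Agent.EtpbcB Groth.Agent.EtpbcB.BCIso
  Groth.Agent.Etrest.StrictLoc Groth.Agent.Sga1.UlaRes Groth.Agent.Sga1.UlaSL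
  Groth.Agent.Vancyc.H675.AcycPt Groth.Agent.Lefpen.H590.SmStrict Groth.Agent.Lefpen.H590.Contr
  Groth.Agent.Lefpen.H590.ContrAlg

section explicit

/-- Acyclicity for constant sheaves, in explicit terms. -/
theorem stalks_of_laStalk {X Y : Scheme.{u}} {j : Y ⟶ X} (M : Type) [AddCommGroup M] {K : Type u}
    [Field K] [IsSepClosed K] {ξ : Spec (CommRingCat.of K) ⟶ X} (h : LAStalk j (EtCoh.const X M) ξ) :
    (∀ q, 0 < q → IsZero ((EtCoh.stalk ξ).obj ((EtCoh.Rpush j q).obj (EtCoh.const Y M)))) ∧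
      Nonempty ((EtCoh.stalk ξ).obj ((EtCoh.push j).obj (EtCoh.const Y M)) ≃+ M) ∧
      Nonempty ((EtCoh.stalk ξ).obj ((EtCoh.Rpush j 0).obj (EtCoh.const Y M)) ≃+ M) := by
  have e0 : Nonempty ((EtCoh.stalk ξ).obj ((EtCoh.push j).obj (EtCoh.const Y M)) ≃+ M) := by
    let e1 : (EtCoh.stalk ξ).obj ((EtCoh.push j).obj ((EtCoh.pull j).obj (EtCoh.const X M))) ≅
        (EtCoh.stalk ξ).obj ((EtCoh.push j).obj (EtCoh.const Y M)) :=
      (EtCoh.stalk ξ).mapIso ((EtCoh.push j).mapIso (EtCore.pullConst j M))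
    have := (ConcreteCategory.isIso_iff_bijective _).2 h.1
    let e2 := asIso ((EtCoh.stalk ξ).map ((EtCoh.pullPushAdj j).unit.app (EtCoh.const X M)))
    let e3 := (Groth.Agent.Etbase.OverStalk.sheafFiberConstantSheafIso
      (Scheme.pointSmallEtale ξ) (AddCommGrpCat.of (ULift.{u + 1} M))).addCommGroupIsoToAddEquiv.trans
      AddEquiv.ulift
    exact ⟨(e1.symm.addCommGroupIsoToAddEquiv.trans e2.symm.addCommGroupIsoToAddEquiv).trans e3⟩
  refine ⟨fun q hq => (h.2 q hq).of_iso ((EtCoh.stalk ξ).mapIso ((EtCoh.Rpush j q).mapIso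
    (EtCore.pullConst j M).symm)), e0, ?_⟩
  obtain ⟨e⟩ := e0
  exact ⟨((EtCoh.stalk ξ).mapIso ((EtCoh.push j).rightDerivedZeroIsoSelf.app
    (EtCoh.const Y M))).addCommGroupIsoToAddEquiv.trans e⟩

end explicit

section cone

variable {R : Type u} [CommRing R] {ι : Type} (w : ι → ℕ) (f : MvPolynomial ι R) (d : ℕ)

/-- the universal coaction. -/
noncomputable def Delta : MvPolynomial ι R →ₐ[R] Polynomial (MvPolynomial ι R) :=
  MvPolynomial.aeval (fun i => Polynomial.C (MvPolynomial.X i) * Polynomial.X ^ (w i))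

theorem Delta_X (i : ι) : Delta (R := R) w (MvPolynomial.X i) =
    Polynomial.C (MvPolynomial.X i) * Polynomial.X ^ (w i) :=
  MvPolynomial.aeval_X _ _

/-- the origin. -/
noncomputable def orig : MvPolynomial ι R →ₐ[R] R := MvPolynomial.aeval (fun _ => (0 : R))

theorem orig_X (i : ι) : orig (R := R) (MvPolynomial.X i) = 0 := MvPolynomial.aeval_X _ _

/-- `f(λ^w x) = λ^d f(x)`. -/
def WHomog : Prop := Delta w f = Polynomial.C f * Polynomial.X ^ d

/-- the coordinate ring of the hypersurface. -/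
abbrev Cone : Type u := MvPolynomial ι R ⧸ Ideal.span {f}

theorem eval_one_Delta (p : MvPolynomial ι R) : (Delta w p).eval 1 = p := by
  have h : (((Polynomial.aeval (1 : MvPolynomial ι R)).restrictScalars R).comp (Delta w)) =
      AlgHom.id R (MvPolynomial ι R) := by
    apply MvPolynomial.algHom_ext
    intro i
    simp [Delta_X]
  have h2 := congrArg (fun φ : MvPolynomial ι R →ₐ[R] MvPolynomial ι R => φ p) h
  simpa [Polynomial.coe_aeval_eq_eval] using h2

variable {w f d} 

theorem eval_zero_Delta (hw : ∀ i, w i ≠ 0) (p : MvPolynomial ι R) :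
    (Delta w p).eval 0 = MvPolynomial.C (orig p) := by
  have h : (((Polynomial.aeval (0 : MvPolynomial ι R)).restrictScalars R).comp (Delta w)) =
      (Algebra.ofId R (MvPolynomial ι R)).comp orig := by
    apply MvPolynomial.algHom_ext
    intro i
    simp [Delta_X, orig_X, hw i]
  have h2 := congrArg (fun φ : MvPolynomial ι R →ₐ[R] MvPolynomial ι R => φ p) h
  simpa [Polynomial.coe_aeval_eq_eval, Algebra.ofId_apply, MvPolynomial.algebraMap_eq] using h2

theorem map_orig_Delta (p : MvPolynomial ι R) :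
    (Delta w p).map (orig (R := R)).toRingHom = Polynomial.C (orig p) := by
  have h : (Polynomial.mapAlgHom (orig (R := R) (ι := ι))).comp (Delta w) =
      (Algebra.ofId R (Polynomial R)).comp orig := by
    apply MvPolynomial.algHom_ext
    intro i
    simp [Delta_X, orig_X]
  have h2 := congrArg (fun φ : MvPolynomial ι R →ₐ[R] Polynomial R => φ p) h
  simpa [Algebra.ofId_apply, Polynomial.algebraMap_apply] using h2

theorem orig_eq_zero (hw : ∀ i, w i ≠ 0) (hd : d ≠ 0) (hf : WHomog w f d) : orig f = 0 := by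
  have h1 := eval_zero_Delta hw f
  rw [hf] at h1
  simp [hd] at h1
  exact (MvPolynomial.C_injective ι R) (by rw [← h1, map_zero])

/-- the vertex. -/
noncomputable def vertex (hw : ∀ i, w i ≠ 0) (hd : d ≠ 0) (hf : WHomog w f d) : Cone f →ₐ[R] R :=
  Ideal.Quotient.liftₐ (Ideal.span {f}) orig fun a ha => by
    have h : Ideal.span {f} ≤ RingHom.ker (orig (R := R) (ι := ι)) :=
      (Ideal.span_singleton_le_iff_mem _).2 (orig_eq_zero hw hd hf)
    exact h ha

theorem vertex_mk (hw : ∀ i, w i ≠ 0) (hd : d ≠ 0) (hf : WHomog w f d) (p : MvPolynomial ι R) :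
    vertex hw hd hf (Ideal.Quotient.mk _ p) = orig p := rfl

/-- the coaction. -/
noncomputable def coact (hf : WHomog w f d) : Cone f →ₐ[R] Polynomial (Cone f) :=
  Ideal.Quotient.liftₐ (Ideal.span {f})
    ((Polynomial.mapAlgHom (Ideal.Quotient.mkₐ R (Ideal.span {f}))).comp (Delta w)) fun a ha => by
    have h : Ideal.span {f} ≤ RingHom.ker
        ((Polynomial.mapAlgHom (Ideal.Quotient.mkₐ R (Ideal.span {f}))).comp (Delta w)) := by
      rw [Ideal.span_singleton_le_iff_mem, RingHom.mem_ker, AlgHom.comp_apply, hf]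
      have : Ideal.Quotient.mk (Ideal.span {f}) f = 0 :=
        Ideal.Quotient.eq_zero_iff_mem.2 (Ideal.mem_span_singleton_self f)
      simp [this]
    exact h ha

theorem coact_mk (hf : WHomog w f d) (p : MvPolynomial ι R) :
    coact hf (Ideal.Quotient.mk _ p) = (Delta w p).map (Ideal.Quotient.mk (Ideal.span {f})) := rfl

theorem coact_one (hf : WHomog w f d) (p : Cone f) : (coact hf p).eval 1 = p := by
  obtain ⟨p, rfl⟩ := Ideal.Quotient.mk_surjective p
  rw [coact_mk, Polynomial.eval_one_map, eval_one_Delta]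

theorem coact_zero (hw : ∀ i, w i ≠ 0) (hd : d ≠ 0) (hf : WHomog w f d) (p : Cone f) :
    (coact hf p).eval 0 = algebraMap R (Cone f) (vertex hw hd hf p) := by
  obtain ⟨p, rfl⟩ := Ideal.Quotient.mk_surjective p
  rw [coact_mk, Polynomial.eval_zero_map, eval_zero_Delta hw, vertex_mk]
  rfl

theorem coact_map (hw : ∀ i, w i ≠ 0) (hd : d ≠ 0) (hf : WHomog w f d) (p : Cone f) :
    (coact hf p).map (vertex hw hd hf).toRingHom = Polynomial.C (vertex hw hd hf p) := by
  obtain ⟨p, rfl⟩ := Ideal.Quotient.mk_surjective p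
  rw [coact_mk, Polynomial.map_map, vertex_mk, ← map_orig_Delta]
  rfl

/-- Elements of the cone are congruent to their value at the vertex. -/
theorem sub_vertex_mem (hw : ∀ i, w i ≠ 0) (hd : d ≠ 0) (hf : WHomog w f d) (𝔭 : Ideal (Cone f))
    (h𝔭 : ∀ i, Ideal.Quotient.mk (Ideal.span {f}) (MvPolynomial.X i) ∈ 𝔭) (p : Cone f) :
    p - algebraMap R (Cone f) (vertex hw hd hf p) ∈ 𝔭 := by
  obtain ⟨p, rfl⟩ := Ideal.Quotient.mk_surjective p
  rw [← Ideal.Quotient.eq_zero_iff_mem, map_sub, sub_eq_zero, vertex_mk]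
  have h : ((Ideal.Quotient.mkₐ R 𝔭).comp (Ideal.Quotient.mkₐ R (Ideal.span {f}))) =
      ((Ideal.Quotient.mkₐ R 𝔭).comp (Algebra.ofId R (Cone f))).comp orig := by
    apply MvPolynomial.algHom_ext
    intro i
    have := Ideal.Quotient.eq_zero_iff_mem.2 (h𝔭 i)
    simp [orig_X, this]
  exact congrArg (fun φ : MvPolynomial ι R →ₐ[R] (Cone f ⧸ 𝔭) => φ p) h

/-- The example needed for pencils of hyperplane sections. -/
theorem wHomog_M2 (s : R) : WHomog (R := R) (ι := Fin 3) ![1, 1, 2]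
    (MvPolynomial.X 0 * MvPolynomial.X 1 + MvPolynomial.C s * MvPolynomial.X 2) 2 := by
  have hs : Delta (R := R) (ι := Fin 3) ![1, 1, 2] (MvPolynomial.C s) = Polynomial.C (MvPolynomial.C s) :=
    (Delta (R := R) (ι := Fin 3) ![1, 1, 2]).commutes s
  rw [WHomog, map_add, map_mul, map_mul, Delta_X, Delta_X, Delta_X, hs]
  simp
  ring

end cone

section main

variable {R : Type u} [CommRing R] [HenselianLocalRing R] [IsSepClosed (ResidueField R)]
  {Ω : Type u} [Field Ω] [IsSepClosed Ω] (t : Spec (CommRingCat.of Ω) ⟶ Spec (CommRingCat.of R))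
  (N : ℕ) (hN : IsUnit (N : R))

/-- The point of the closed fibre at which all coordinates vanish is the vertex. -/
theorem eq_vertex {ι : Type} {w : ι → ℕ} {f : MvPolynomial ι R} {d : ℕ} (hw : ∀ i, w i ≠ 0)
    (hd : d ≠ 0) (hf : WHomog w f d) (x : Spec (CommRingCat.of (Cone f)))
    (hx : spm (algebraMap R (Cone f)) x = closedPoint R)
    (hx' : ∀ i, Ideal.Quotient.mk (Ideal.span {f}) (MvPolynomial.X i) ∈ x.asIdeal) :
    x = spm (vertex hw hd hf).toRingHom (closedPoint R) := by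
  have hsurj : Function.Surjective (vertex hw hd hf).toRingHom :=
    fun r => ⟨algebraMap R _ r, (vertex hw hd hf).commutes r⟩
  have hmax : ((maximalIdeal R).comap (vertex hw hd hf).toRingHom).IsMaximal :=
    Ideal.comap_isMaximal_of_surjective _ hsurj
  apply PrimeSpectrum.ext
  refine (hmax.eq_of_le x.isPrime.ne_top fun p hp => ?_).symm
  have h1 := sub_vertex_mem hw hd hf x.asIdeal hx' p
  have h2 : algebraMap R (Cone f) (vertex hw hd hf p) ∈ x.asIdeal := by
    have h3 : vertex hw hd hf p ∈ (closedPoint R).asIdeal := hp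
    rw [← hx] at h3
    exact h3
  simpa using x.asIdeal.add_mem h1 h2

include hN in
/-- **Vanishing cycles at the vertex of a weighted homogeneous hypersurface.** -/
theorem laStalk_cone {ι : Type} {w : ι → ℕ} {f : MvPolynomial ι R} {d : ℕ} (hw : ∀ i, w i ≠ 0)
    (hd : d ≠ 0) (hf : WHomog w f d) (M : AddCommGrpCat.{u + 1}) (hM : ∀ m : M, N • m = 0)
    {Y : Scheme.{u}} {j : Y ⟶ Spec (CommRingCat.of (Cone f))} {y : Y ⟶ Spec (CommRingCat.of Ω)}
    (sq : IsPullback j y (Spec.map (CommRingCat.ofHom (algebraMap R (Cone f)))) t)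
    {K : Type u} [Field K] [IsSepClosed K] (ξ : Spec (CommRingCat.of K) ⟶ Spec (CommRingCat.of (Cone f)))
    (hξ : (ξ ≫ Spec.map (CommRingCat.ofHom (algebraMap R (Cone f)))) default = closedPoint R)
    (hξ' : ∀ i, Ideal.Quotient.mk (Ideal.span {f}) (MvPolynomial.X i) ∈ (ξ default).asIdeal) :
    LAStalk j ((constU (Spec (CommRingCat.of (Cone f)))).obj M) ξ :=
  laStalk_contr (vertex hw hd hf) (coact hf) (coact_one hf) (coact_zero hw hd hf)
    (coact_map hw hd hf) t N hN M hM sq ξ (eq_vertex hw hd hf _ hξ hξ')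

include hN in
/-- The stalks of `R^q j_* M` at the vertex of a weighted homogeneous hypersurface. -/
theorem stalk_cone {ι : Type} {w : ι → ℕ} {f : MvPolynomial ι R} {d : ℕ} (hw : ∀ i, w i ≠ 0)
    (hd : d ≠ 0) (hf : WHomog w f d) (M : Type) [AddCommGroup M] (hM : ∀ m : M, N • m = 0)
    {Y : Scheme.{u}} {j : Y ⟶ Spec (CommRingCat.of (Cone f))} {y : Y ⟶ Spec (CommRingCat.of Ω)}
    (sq : IsPullback j y (Spec.map (CommRingCat.ofHom (algebraMap R (Cone f)))) t)
    {K : Type u} [Field K] [IsSepClosed K] (ξ : Spec (CommRingCat.of K) ⟶ Spec (CommRingCat.of (Cone f)))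
    (hξ : (ξ ≫ Spec.map (CommRingCat.ofHom (algebraMap R (Cone f)))) default = closedPoint R)
    (hξ' : ∀ i, Ideal.Quotient.mk (Ideal.span {f}) (MvPolynomial.X i) ∈ (ξ default).asIdeal) :
    (∀ q, 0 < q → IsZero ((EtCoh.stalk ξ).obj ((EtCoh.Rpush j q).obj (EtCoh.const Y M)))) ∧
      Nonempty ((EtCoh.stalk ξ).obj ((EtCoh.push j).obj (EtCoh.const Y M)) ≃+ M) ∧
      Nonempty ((EtCoh.stalk ξ).obj ((EtCoh.Rpush j 0).obj (EtCoh.const Y M)) ≃+ M) :=
  stalks_of_laStalk M (laStalk_cone t N hN hw hd hf (AddCommGrpCat.of (ULift.{u + 1} M))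
    (fun m => ULift.ext _ _ (hM m.down)) sq ξ hξ hξ')

/-- the standard degeneration `X 0 * X 1 + s * X 2 = 0`. -/
abbrev M2 (R : Type u) [CommRing R] (s : R) : Type u :=
  MvPolynomial (Fin 3) R ⧸ Ideal.span {(MvPolynomial.X 0 * MvPolynomial.X 1 +
    MvPolynomial.C s * MvPolynomial.X 2 : MvPolynomial (Fin 3) R)}

include hN in
/-- **(CONTR)** for the standard degeneration. -/
theorem laStalk_M2 (s : R) (M : AddCommGrpCat.{u + 1}) (hM : ∀ m : M, N • m = 0)
    {Y : Scheme.{u}} {j : Y ⟶ Spec (CommRingCat.of (M2 R s))} {y : Y ⟶ Spec (CommRingCat.of Ω)}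
    (sq : IsPullback j y (Spec.map (CommRingCat.ofHom (algebraMap R (M2 R s)))) t)
    {K : Type u} [Field K] [IsSepClosed K] (ξ : Spec (CommRingCat.of K) ⟶ Spec (CommRingCat.of (M2 R s)))
    (hξ : (ξ ≫ Spec.map (CommRingCat.ofHom (algebraMap R (M2 R s)))) default = closedPoint R)
    (hξ' : ∀ i, Ideal.Quotient.mk _ (MvPolynomial.X i) ∈ (ξ default).asIdeal) :
    LAStalk j ((constU (Spec (CommRingCat.of (M2 R s)))).obj M) ξ :=
  laStalk_cone t N hN (w := ![1, 1, 2]) (d := 2) (by intro i; fin_cases i <;> simp) (by simp)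
    (wHomog_M2 s) M hM sq ξ hξ hξ'

include hN in
/-- **(CONTR)** for the standard degeneration, explicit form. -/
theorem stalk_M2 (s : R) (M : Type) [AddCommGroup M] (hM : ∀ m : M, N • m = 0)
    {Y : Scheme.{u}} {j : Y ⟶ Spec (CommRingCat.of (M2 R s))} {y : Y ⟶ Spec (CommRingCat.of Ω)}
    (sq : IsPullback j y (Spec.map (CommRingCat.ofHom (algebraMap R (M2 R s)))) t)
    {K : Type u} [Field K] [IsSepClosed K] (ξ : Spec (CommRingCat.of K) ⟶ Spec (CommRingCat.of (M2 R s)))
    (hξ : (ξ ≫ Spec.map (CommRingCat.ofHom (algebraMap R (M2 R s)))) default = closedPoint R)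
    (hξ' : ∀ i, Ideal.Quotient.mk _ (MvPolynomial.X i) ∈ (ξ default).asIdeal) :
    (∀ q, 0 < q → IsZero ((EtCoh.stalk ξ).obj ((EtCoh.Rpush j q).obj (EtCoh.const Y M)))) ∧
      Nonempty ((EtCoh.stalk ξ).obj ((EtCoh.push j).obj (EtCoh.const Y M)) ≃+ M) ∧
      Nonempty ((EtCoh.stalk ξ).obj ((EtCoh.Rpush j 0).obj (EtCoh.const Y M)) ≃+ M) :=
  stalk_cone t N hN (w := ![1, 1, 2]) (d := 2) (by intro i; fin_cases i <;> simp) (by simp)
    (wHomog_M2 s) M hM sq ξ hξ hξ'

end main

end Groth.Agent.Lefpen.H590.ContrCone
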