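import Groth.Agent.Lefpen.H590.MuBCore
import Groth.Agent.Lefpen.H714.NcThree

/-!
# The Euler number of the model `xy + tz = 0` is one
-/

set_option autoImplicit false
universe u

open CategoryTheory CategoryTheory.Limits AlgebraicGeometry Opposite IsLocalRing

namespace Groth.Agent.Lefpen.H590.MuB

open Groth.Agent.Lefpen.H590.ContrCone Groth.Agent.Lefpen.H590.MuBCore

theorem muB_eq_one (R : Type u) [CommRing R] [HenselianLocalRing R]
    [IsSepClosed (IsLocalRing.ResidueField R)] {Ω : Type u} [Field Ω] [IsSepClosed Ω]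
    (η : Spec (CommRingCat.of Ω) ⟶ Spec (CommRingCat.of R)) (ℓ : ℕ) [Fact ℓ.Prime]
    (hℓ : IsUnit (ℓ : R)) (t : R) : H714.NcThree.muB R η ℓ t = 1 := by
  obtain ⟨h1, h2⟩ := apt_cone R η ℓ hℓ (w := ![1, 1, 2]) (d := 2)
    (f := H714.NcThree.pB R t) (by intro i; fin_cases i <;> simp) (by simp) (wHomog_M2 t)
    (H714.NcThree.hB R t)
  exact chi_div_log _ ℓ h1 h2

end Groth.Agent.Lefpen.H590.MuB
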