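import Groth.Agent.Lefpen.H590.ContrCone
import Groth.Agent.Lefpen.H714.Models
import Groth.Agent.Lefpen.H714.EulerAlg
import Groth.Agent.EtpbcB.SepClosedPoint

/-!
# The Euler number of a weighted homogeneous model is one
-/

set_option autoImplicit false
universe u

open CategoryTheory CategoryTheory.Limits AlgebraicGeometry Opposite IsLocalRing

namespace Groth.Agent.Lefpen.H590.MuBCore

open Groth.Agent.Lefpen.H590.ContrCone Groth.Agent.Lefpen.H714.Models
  Groth.Agent.Lefpen.H714.EulerAlg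

/-- The Euler characteristic of a single group of order `ℓ` in degree zero. -/
theorem chi_div_log (A : ℕ → Type*) (ℓ : ℕ) [hℓ : Fact ℓ.Prime] (h : ∀ q, 0 < q → Subsingleton (A q))
    (h0 : Nat.card (A 0) = ℓ) : chi A / Real.log ℓ = 1 := by
  rw [chi_eq_sum 0 h, Finset.sum_range_one, pow_zero, one_mul, lg, h0]
  exact div_self (Real.log_pos (by exact_mod_cast hℓ.out.one_lt)).ne'

variable (R : Type u) [CommRing R] [HenselianLocalRing R] [IsSepClosed (ResidueField R)]
  {Ω : Type u} [Field Ω] [IsSepClosed Ω] (η : Spec (CommRingCat.of Ω) ⟶ Spec (CommRingCat.of R))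
  (ℓ : ℕ) (hℓ : IsUnit (ℓ : R))

include hℓ in
/-- The values of `R^q j_* Z/ℓ` at the origin of a weighted homogeneous model. -/
theorem apt_cone {ι : Type} {w : ι → ℕ} {f : MvPolynomial ι R} {d : ℕ} (hw : ∀ i, w i ≠ 0)
    (hd : d ≠ 0) (hf : WHomog w f d) (hf0 : residue R (MvPolynomial.constantCoeff f) = 0) :
    (∀ q, 0 < q → Subsingleton (((EtCoh.pull (orig ι R f hf0)).obj
      ((EtCoh.Rpush (pullback.fst (toBase ι R f) η) q).obj
        (EtCoh.const (pullback (toBase ι R f) η) (ZMod ℓ)))).obj.obj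
          (op (EtCoh.top (Spec (CommRingCat.of (ResidueField R))))) : AddCommGrpCat.{u + 1})) ∧
      Nat.card (((EtCoh.pull (orig ι R f hf0)).obj
      ((EtCoh.Rpush (pullback.fst (toBase ι R f) η) 0).obj
        (EtCoh.const (pullback (toBase ι R f) η) (ZMod ℓ)))).obj.obj
          (op (EtCoh.top (Spec (CommRingCat.of (ResidueField R))))) : AddCommGrpCat.{u + 1}) = ℓ := by
  have hξ : ∀ z, (orig ι R f hf0 ≫ toBase ι R f) z = closedPoint R := by
    intro z
    rw [orig_toBase]
    exact Groth.Agent.Etrest.StrictLoc.resPt_closedPoint R z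
  have hξ' : ∀ (i : ι) (z : Spec (CommRingCat.of (ResidueField R))),
      Ideal.Quotient.mk (Ideal.span {f}) (MvPolynomial.X i) ∈ (orig ι R f hf0 z).asIdeal := by
    intro i z
    change evq ι R f hf0 (Ideal.Quotient.mk (Ideal.span {f}) (MvPolynomial.X i)) ∈ z.asIdeal
    rw [evq_mk, MvPolynomial.constantCoeff_X, map_zero]
    exact Ideal.zero_mem _
  obtain ⟨h1, -, ⟨e⟩⟩ := stalk_cone η ℓ hℓ hw hd hf (ZMod ℓ) (fun m => by simp)
    (IsPullback.of_hasPullback (toBase ι R f) η) (orig ι R f hf0) (hξ _) (fun i => hξ' i _)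
  refine ⟨fun q hq => ?_, ?_⟩
  · have h2 := (h1 q hq).of_iso ((Groth.Agent.EtpbcB.SepClosedPoint.stalkIsoGammaPull _
      (orig ι R f hf0)).app ((EtCoh.Rpush (pullback.fst (toBase ι R f) η) q).obj
        (EtCoh.const (pullback (toBase ι R f) η) (ZMod ℓ)))).symm
    exact AddCommGrpCat.subsingleton_of_isZero h2
  · exact (Nat.card_congr (((Groth.Agent.EtpbcB.SepClosedPoint.stalkIsoGammaPull _
      (orig ι R f hf0)).app ((EtCoh.Rpush (pullback.fst (toBase ι R f) η) 0).obj
        (EtCoh.const (pullback (toBase ι R f) η) (ZMod ℓ)))).symm.addCommGroupIsoToAddEquiv.trans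
          e).toEquiv).trans (Nat.card_zmod ℓ)

end Groth.Agent.Lefpen.H590.MuBCore
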