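import Groth.Agent.Vancyc.H675.AcycPt
import Groth.Agent.Vancyc.H675.SmoothPt
import Groth.Agent.EtpbcA.LATrans
import Groth.Agent.Etbc.H190.Pointwise
import Groth.Agent.Sga1.UlaSL
import Groth.Agent.Etrest.IsoInv
import Groth.Agent.Etrest.HpullConst

/-!
# Cohomology of qcqs schemes over strictly local schemes and strict localizations of smooth schemes

`C` strictly henselian local, `g : A ⟶ Spec C` smooth, `σ : Spec B ⟶ A` a strict localization at a point
over the closed point of `Spec C`.  Then for every `W ⟶ Spec C` and every abelian group `M` killed by an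
integer invertible in `C`, the pull-back `H^q(W, M) → H^q(W ×_C B, M)` is bijective for all `q`.
-/

set_option autoImplicit false
universe u

open CategoryTheory CategoryTheory.Limits AlgebraicGeometry Opposite IsLocalRing

namespace Groth.Agent.Lefpen.H590.SmStrict

open EtCoh Groth.Agent.EtpbcA Groth.Agent.EtpbcA.LA Groth.Agent.EtpbcB Groth.Agent.EtpbcB.BCIso
  Groth.Agent.Etrest.StrictLoc Groth.Agent.Sga1.UlaRes Groth.Agent.Sga1.UlaSL
  Groth.Agent.Vancyc.H675.AcycPt Groth.Agent.Vancyc.H675.SmoothPt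

variable {C : Type u} [CommRing C] [HenselianLocalRing C] [IsSepClosed (ResidueField C)]

theorem subsingleton_H_pos (A : Type u) [CommRing A] [HenselianLocalRing A]
    [IsSepClosed (ResidueField A)] (F : Ab (Spec (CommRingCat.of A))) (q : ℕ) (hq : 0 < q) :
    Subsingleton (H (Spec (CommRingCat.of A)) F q) :=
  Groth.Agent.S0073.result A F q hq

/-- Constant sheaves: morphisms between strictly henselian local schemes induce bijections. -/
theorem bijective_Hpull_local {V V' : Type u} [CommRing V] [hVh : HenselianLocalRing V]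
    [hVs : IsSepClosed (ResidueField V)] [CommRing V'] [HenselianLocalRing V']
    [IsSepClosed (ResidueField V')] (f : Spec (CommRingCat.of V) ⟶ Spec (CommRingCat.of V'))
    (M : AddCommGrpCat.{u + 1}) (q : ℕ) : Function.Bijective (EtCore.Hpull f ((constU _).obj M) q) := by
  rcases Nat.eq_zero_or_pos q with rfl | hq
  · have h1 := preconnectedSpace_spec V
    have h2 := preconnectedSpace_spec V'
    exact bijective_Hpull_zero f M
  · have h1 := subsingleton_H_pos V ((pull f).obj ((constU _).obj M)) q hq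
    have h2 := subsingleton_H_pos V' ((constU _).obj M) q hq
    exact ⟨fun x y _ => Subsingleton.elim _ _, fun y => ⟨0, Subsingleton.elim _ _⟩⟩

theorem res_iff {Z T T' : Scheme.{u}} (h : T' ⟶ T) (k : T ⟶ Z) (k' : T' ⟶ Z) (w : h ≫ k = k')
    (M : AddCommGrpCat.{u + 1}) (q : ℕ) :
    Function.Bijective (res ((constU Z).obj M) h k k' w q) ↔
      Function.Bijective (EtCore.Hpull h ((constU T).obj M) q) := by
  rw [res_bijective_iff, Etrest.HpullConst.bijective_Hpull_iff_of_iso h q (pullConstU k M)]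

theorem comp_iff {Z T T' : Scheme.{u}} (h : T' ⟶ T) (k : T ⟶ Z) (M : AddCommGrpCat.{u + 1}) (q : ℕ)
    (hk : Function.Bijective (EtCore.Hpull k ((constU Z).obj M) q)) :
    Function.Bijective (EtCore.Hpull (h ≫ k) ((constU Z).obj M) q) ↔
      Function.Bijective (EtCore.Hpull h ((constU T).obj M) q) := by
  have h1 : Function.Bijective (res ((constU Z).obj M) k (𝟙 Z) k (Category.comp_id _) q) :=
    (res_iff k (𝟙 Z) k _ M q).2 hk
  rw [← res_iff h k (h ≫ k) rfl, ← res_iff (h ≫ k) (𝟙 Z) (h ≫ k) (Category.comp_id _),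
    ← Function.Bijective.of_comp_iff _ h1]
  have h2 : (res ((constU Z).obj M) (h ≫ k) (𝟙 Z) (h ≫ k) (Category.comp_id _) q :
      HT ((constU Z).obj M) (𝟙 Z) q → HT ((constU Z).obj M) (h ≫ k) q) =
      (res ((constU Z).obj M) h k (h ≫ k) rfl q) ∘
        (res ((constU Z).obj M) k (𝟙 Z) k (Category.comp_id _) q) :=
    funext fun e => (res_comp _ h k (h ≫ k) rfl (𝟙 Z) k (h ≫ k) _ _ _ q e).symm
  rw [h2]

theorem sq_iff {Z V B P : Scheme.{u}} {a : P ⟶ V} {b : P ⟶ B} {f : V ⟶ Z} {g : B ⟶ Z}
    (w : a ≫ f = b ≫ g) (M : AddCommGrpCat.{u + 1}) (q : ℕ)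
    (hf : Function.Bijective (EtCore.Hpull f ((constU Z).obj M) q))
    (hg : Function.Bijective (EtCore.Hpull g ((constU Z).obj M) q)) :
    Function.Bijective (EtCore.Hpull a ((constU V).obj M) q) ↔
      Function.Bijective (EtCore.Hpull b ((constU B).obj M) q) := by
  rw [← comp_iff a f M q hf, w, comp_iff b g M q hg]

/-- Morphisms between strictly henselian local schemes are acyclic at the closed point. -/
theorem acycPt_strict {V : Type u} [CommRing V] [HenselianLocalRing V]
    [IsSepClosed (ResidueField V)] (f : Spec (CommRingCat.of V) ⟶ Spec (CommRingCat.of C))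
    (M : AddCommGrpCat.{u + 1}) {Ω : Type u} [Field Ω] [IsSepClosed Ω]
    (ζ : Spec (CommRingCat.of Ω) ⟶ Spec (CommRingCat.of C)) (hζ : ζ default = closedPoint C) :
    AcycPt ζ f ((constU _).obj M) := by
  have hpb : IsPullback (𝟙 (Spec (CommRingCat.of V))) f f (𝟙 (Spec (CommRingCat.of C))) :=
    IsPullback.of_horiz_isIso ⟨by simp⟩
  have h := (laStalk_iff_res f ((constU _).obj M) ζ (isStrictLoc_id C) (by simpa using hζ) hpb).2
    (fun q => by
      rw [res_bijective_iff,
        Etrest.HpullConst.bijective_Hpull_iff_of_iso f q (pullConstU (𝟙 _) M)]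
      exact bijective_Hpull_local f M q)
  exact ⟨(ConcreteCategory.isIso_iff_bijective _).2 h.1, h.2⟩

section core

variable {A : Scheme.{u}} (g : A ⟶ Spec (CommRingCat.of C)) [Smooth g] {B : Type u} [CommRing B]
  [IsLocalRing B] {σ : Spec (CommRingCat.of B) ⟶ A} (hσ : IsStrictLoc σ)
  (hc : g (σ (closedPoint B)) = closedPoint C) (N : ℕ) (hN : IsUnit (N : C))
  (M : AddCommGrpCat.{u + 1}) (hM : ∀ m : M, N • m = 0)

include hσ hc hN hM in
theorem core {V : Type u} [CommRing V] [hVh : HenselianLocalRing V]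
    [hVs : IsSepClosed (ResidueField V)] (f : Spec (CommRingCat.of V) ⟶ Spec (CommRingCat.of C)) {P : Scheme.{u}}
    {a : P ⟶ Spec (CommRingCat.of V)} {b : P ⟶ Spec (CommRingCat.of B)}
    (h : IsPullback a b f (σ ≫ g)) (q : ℕ) :
    Function.Bijective (EtCore.Hpull b ((constU (Spec (CommRingCat.of B))).obj M) q) := by
  have := hσ.sepClosed
  let ζ : Spec (CommRingCat.of (ResidueField B)) ⟶ A := resPt B ≫ σ
  have hζ : ζ default = σ (closedPoint B) := congrArg σ (resPt_closedPoint B _)
  have hζ' : (ζ ≫ g) default = closedPoint C := by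
    rw [Scheme.Hom.comp_apply, hζ, hc]
  have sq : IsPullback (pullback.snd g f) (pullback.fst g f) f g :=
    (IsPullback.of_hasPullback g f).flip
  have hNS : IsUnit (N : Γ(Spec (CommRingCat.of C), ⊤)) := by
    have h1 := hN.map (Scheme.ΓSpecIso (CommRingCat.of C)).inv.hom
    rwa [map_natCast] at h1
  have h1 := (acycPt_pull_iff_smooth sq N hNS _ (killedBy_constU _ N M hM) ζ).2
    (acycPt_strict f M (ζ ≫ g) hζ')
  have h2 : AcycPt ζ (pullback.fst g f) ((constU A).obj M) := AcycPt.of_iso (pullConstU g M) h1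
  have h3 : LAStalk (pullback.fst g f) ((constU A).obj M) ζ :=
    ⟨(ConcreteCategory.isIso_iff_bijective _).1 h2.1, h2.2⟩
  let c : P ⟶ pullback g f := pullback.lift (b ≫ σ) a (by rw [Category.assoc, ← h.w])
  have hc1 : c ≫ pullback.snd g f = a := pullback.lift_snd _ _ _
  have h4 : IsPullback c b (pullback.fst g f) σ := by
    refine IsPullback.of_right (h₁₂ := pullback.snd g f) (h₂₂ := g) (v₁₃ := f) ?_ ?_ sq
    · rw [hc1]
      exact h
    · exact pullback.lift_fst _ _ _
  have h5 := (laStalk_iff_res (pullback.fst g f) _ ζ hσ hζ h4).1 h3 q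
  rw [res_bijective_iff, Etrest.HpullConst.bijective_Hpull_iff_of_iso b q (pullConstU σ M)] at h5
  exact h5

include hσ hc hN hM in
/-- **Cohomology over a strict localization of a smooth scheme.** -/
theorem bijective_Hpull_strict {W : Scheme.{u}} (f : W ⟶ Spec (CommRingCat.of C)) {P : Scheme.{u}}
    {a : P ⟶ W} {b : P ⟶ Spec (CommRingCat.of B)} (h : IsPullback a b f (σ ≫ g)) (q : ℕ) :
    Function.Bijective (EtCore.Hpull a ((constU W).obj M) q) := by
  have hB := hσ.henselian
  have hB' := hσ.sepClosed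
  have haff : IsAffineHom a := MorphismProperty.of_isPullback h.flip
    (inferInstanceAs (IsAffineHom (σ ≫ g)))
  refine Etbc.H190.Pointwise.Hpull_bijective_of_pointwise a ((constU W).obj M) ?_ q
  intro Ω _ _ η P' a' b' h'
  have hO := EtpbcB.StrictLoc.henselianLocalRing η
  have hO' := EtpbcB.StrictLoc.isSepClosed_residueField η
  have h2 : IsPullback a' (b' ≫ b) (EtpbcB.StrictLoc.toBase η ≫ f) (σ ≫ g) :=
    (h'.paste_horiz h.flip).flip
  have h3 := fun q => core g hσ hc N hN M hM (V := EtpbcB.StrictLoc.Osh η) (hVh := hO) (hVs := hO')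
    (EtpbcB.StrictLoc.toBase η ≫ f) h2 q
  refine ⟨?_, fun q hq => ?_⟩
  · rw [← bijective_Hpull_zero_iff,
      Etrest.HpullConst.bijective_Hpull_iff_of_iso a' 0 (pullConstU (EtpbcB.StrictLoc.toBase η) M),
      sq_iff h2.w M 0 (bijective_Hpull_local (V := EtpbcB.StrictLoc.Osh η) (hVh := hO) (hVs := hO') _ M 0)
        (bijective_Hpull_local (V := B) _ M 0)]
    exact h3 0
  · have h4 : Subsingleton (H P' ((pull (b' ≫ b)).obj ((constU _).obj M)) q) := by
      have h5 := subsingleton_H_pos B ((constU _).obj M) q hq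
      exact (h3 q).2.subsingleton
    let e : (pull (b' ≫ b)).obj ((constU _).obj M) ≅
        (pull a').obj ((pull (EtpbcB.StrictLoc.toBase η)).obj ((constU W).obj M)) :=
      pullConstU (b' ≫ b) M ≪≫ (pullConstU a' M).symm ≪≫
        (pull a').mapIso (pullConstU (EtpbcB.StrictLoc.toBase η) M).symm
    exact (Etrest.IsoInv.HCongr e q).symm.toEquiv.subsingleton

end core

end Groth.Agent.Lefpen.H590.SmStrict
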